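import Mathlib
import Cfsg.Prelude.Def_Characters
import Cfsg.Prelude.Def_OddOrderChar
import Cfsg.Agent.Lib.Helper2.CharComplete
import Cfsg.Agent.Lib.Helper2.CharOrtho
import Cfsg.Agent.Lib.Helper2.CharLinear
import Cfsg.Agent.Lib.Helper2.CharIntegral
import Cfsg.Agent.Lib.Helper2.CharExpand
import Cfsg.Agent.Lib.Helper2.CharGen
import Cfsg.Agent.Lib.Helper2.CharDecomp
import Cfsg.Agent.Lib.Helper2.IndFun
import Cfsg.Agent.S0149
import Cfsg.Agent.Lib.Helper12.ZSpan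

set_option autoImplicit false

/-!
Characters of a group `M` with a normal subgroup `H` containing the centralizers of its
non-identity elements (a Frobenius kernel): the irreducible characters that are nontrivial
on `H` ("relevant" ones) vanish off `H`, and the usual degree sums.
-/

namespace Cfsg.Agent.Lib.Lead.TIFN

open Cfsg.Agent.Lib.Helper2
open scoped ComplexConjugate
open Classical

noncomputable section

variable {M : Type*} [Group M]

/-- `χ` is not constant equal to its degree on `H`. -/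
def Rel (H : Subgroup M) (χ : M → ℂ) : Prop := ∃ h ∈ H, χ h ≠ χ 1

/-- the degree of an irreducible character, as a natural number -/
def deg (χ : Cfsg.IrrCharacter M) : ℕ := Classical.choose (irr_apply_one χ.2)

theorem deg_pos (χ : Cfsg.IrrCharacter M) : 0 < deg χ :=
  (Classical.choose_spec (irr_apply_one χ.2)).1

theorem deg_spec (χ : Cfsg.IrrCharacter M) : (χ : M → ℂ) 1 = (deg χ : ℂ) :=
  (Classical.choose_spec (irr_apply_one χ.2)).2

theorem deg_ne_zero (χ : Cfsg.IrrCharacter M) : (deg χ : ℂ) ≠ 0 := by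
  have := deg_pos χ
  exact_mod_cast this.ne'

theorem deg_dvd_card [Finite M] (χ : Cfsg.IrrCharacter M) : deg χ ∣ Nat.card M := by
  have hd := deg_spec χ
  obtain ⟨χf, hχ⟩ := χ
  obtain ⟨m, ρ, hρ, rfl⟩ := hχ
  have := hρ
  have h1 := irr_degree_dvd_card ρ
  have h2 : ρ.character 1 = (Module.finrank ℂ (Fin m → ℂ) : ℂ) := Representation.char_one ρ
  change ρ.character 1 = _ at hd
  rw [hd] at h2
  have h3 : deg ⟨ρ.character, ⟨m, ρ, hρ, rfl⟩⟩ = Module.finrank ℂ (Fin m → ℂ) := by exact_mod_cast h2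
  rw [h3]
  exact h1

theorem not_rel_apply {H : Subgroup M} {χ : Cfsg.IrrCharacter M} (hr : ¬ Rel H χ) {h : M} (hh : h ∈ H) :
    (χ : M → ℂ) h = (deg χ : ℂ) := by
  by_contra hne
  exact hr ⟨h, hh, by rwa [deg_spec]⟩

variable [Fintype M]

/-- A relevant irreducible character sums to zero over every coset of `H`. -/
theorem sum_coset_eq_zero (H : Subgroup M) [H.Normal] [Fintype H] {χ : M → ℂ}
    (hχ : Cfsg.IsIrrCharacter M χ) (hne : Rel H χ) (n : M) : ∑ h : H, χ (n * h) = 0 := by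
  obtain ⟨d, ρ, hirr, rfl⟩ := hχ
  have := hirr
  set f : M → ℂ := fun g => if g ∈ H then 1 else 0 with hf
  have hfc : Cfsg.IsClassFunction M f := by
    intro g x
    have hiff : x * g * x⁻¹ ∈ H ↔ g ∈ H := by
      constructor
      · intro h1
        have := (inferInstance : H.Normal).conj_mem _ h1 x⁻¹
        have e : x⁻¹ * (x * g * x⁻¹) * x⁻¹⁻¹ = g := by group
        rwa [e] at this
      · intro h1
        exact (inferInstance : H.Normal).conj_mem _ h1 x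
    simp only [hf, hiff]
  have hT : ∀ h ∈ H, ρ h * classOp ρ f = classOp ρ f := by
    intro h hh
    unfold classOp
    rw [Finset.mul_sum]
    apply Fintype.sum_equiv (Equiv.mulLeft h)
    intro x
    have hiff : h * x ∈ H ↔ x ∈ H := H.mul_mem_cancel_left hh
    simp only [Equiv.coe_mulLeft, hf, hiff]
    rw [mul_smul_comm, ← map_mul]
  have heq := classOp_eq ρ f hfc
  set c := (∑ g : M, f g * ρ.character g) / (Module.finrank ℂ (Fin d → ℂ) : ℂ) with hc
  have hc0 : c = 0 := by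
    by_contra hc0
    obtain ⟨h, hh, hne'⟩ := hne
    apply hne'
    have h1 := hT h hh
    rw [heq] at h1
    have h2 : ρ h = 1 := by
      have h3 : c • ρ h = c • (1 : (Fin d → ℂ) →ₗ[ℂ] (Fin d → ℂ)) := by
        rw [mul_smul_comm] at h1
        exact h1
      exact smul_right_injective _ hc0 h3
    unfold Representation.character
    rw [h2, map_one ρ]
  have hT0 : classOp ρ f = 0 := by rw [heq, hc0, zero_smul]
  have h3 : LinearMap.trace ℂ _ (ρ n * classOp ρ f) = ∑ g : M, f g * ρ.character (n * g) := by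
    unfold classOp Representation.character
    rw [Finset.mul_sum, map_sum]
    apply Finset.sum_congr rfl
    intro g _
    rw [mul_smul_comm, map_smul, smul_eq_mul, ← map_mul]
  rw [hT0, mul_zero, map_zero] at h3
  have h4 : ∑ g : M, f g * ρ.character (n * g) = ∑ h : H, ρ.character (n * h) := by
    have e1 : ∀ g : M, f g * ρ.character (n * g) = if g ∈ H then ρ.character (n * g) else 0 := by
      intro g
      simp only [hf]
      split_ifs <;> simp
    simp only [e1]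
    rw [← Finset.sum_filter]
    exact Finset.sum_subtype (Finset.univ.filter (· ∈ H)) (by simp) (fun g => ρ.character (n * g))
  rw [← h4, ← h3]

/-- A relevant irreducible character vanishes off `H`. -/
theorem vanish_off (H : Subgroup M) [H.Normal]
    (hC : ∀ h ∈ H, h ≠ 1 → ∀ x : M, x * h = h * x → x ∈ H) {χ : M → ℂ}
    (hχ : Cfsg.IsIrrCharacter M χ) (hne : Rel H χ) (n : M) (hn : n ∉ H) : χ n = 0 := by
  have : Fintype H := Fintype.ofFinite H
  have hcl := isClassFunction_of_isIrrCharacter hχ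
  have hmem : ∀ h : H, n⁻¹ * (h : M) * n * (h : M)⁻¹ ∈ H := by
    intro h
    apply H.mul_mem _ (H.inv_mem h.2)
    have := (inferInstance : H.Normal).conj_mem h.1 h.2 n⁻¹
    simpa using this
  let c : H → H := fun h => ⟨n⁻¹ * (h : M) * n * (h : M)⁻¹, hmem h⟩
  have hinj : Function.Injective c := by
    intro h₁ h₂ h12
    have e : n⁻¹ * (h₁ : M) * n * (h₁ : M)⁻¹ = n⁻¹ * (h₂ : M) * n * (h₂ : M)⁻¹ :=
      congrArg Subtype.val h12
    by_contra hne12
    apply hn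
    have hh : (h₂ : M)⁻¹ * (h₁ : M) ∈ H := H.mul_mem (H.inv_mem h₂.2) h₁.2
    have hh1 : (h₂ : M)⁻¹ * (h₁ : M) ≠ 1 := by
      intro h0
      apply hne12
      apply Subtype.ext
      exact (inv_mul_eq_one.mp h0).symm
    apply hC _ hh hh1 n
    have e2 : (h₁ : M) * n * (h₁ : M)⁻¹ = (h₂ : M) * n * (h₂ : M)⁻¹ := by
      have := congrArg (fun z => n * z) e
      simpa [mul_assoc] using this
    calc n * ((h₂ : M)⁻¹ * (h₁ : M))
        = (h₂ : M)⁻¹ * ((h₂ : M) * n * (h₂ : M)⁻¹) * (h₁ : M) := by group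
      _ = (h₂ : M)⁻¹ * ((h₁ : M) * n * (h₁ : M)⁻¹) * (h₁ : M) := by rw [e2]
      _ = (h₂ : M)⁻¹ * (h₁ : M) * n := by group
  have hbij : Function.Bijective c := Finite.injective_iff_bijective.mp hinj
  have hsum := sum_coset_eq_zero H hχ hne n
  have h2 : ∑ h : H, χ (n * (c h : M)) = ∑ h : H, χ (n * (h : M)) :=
    Function.Bijective.sum_comp hbij (fun h : H => χ (n * (h : M)))
  have h3 : ∀ h : H, χ (n * (c h : M)) = χ n := by
    intro h
    have : n * (c h : M) = (h : M) * n * (h : M)⁻¹ := by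
      change n * (n⁻¹ * (h : M) * n * (h : M)⁻¹) = _
      group
    rw [this]
    exact hcl n h
  rw [hsum] at h2
  simp only [h3, Finset.sum_const, Finset.card_univ, nsmul_eq_mul] at h2
  have hcard : (Fintype.card H : ℂ) ≠ 0 := by exact_mod_cast Fintype.card_ne_zero
  exact (mul_eq_zero.mp h2).resolve_left hcard

theorem colFun_one_one : colFun (1 : M) (1 : M) = (Nat.card M : ℂ) := by
  unfold colFun
  simp [Nat.card_eq_fintype_card]

theorem colFun_one_ne {h : M} (hh : h ≠ 1) : colFun (1 : M) h = 0 := by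
  unfold colFun
  apply Finset.sum_eq_zero
  intro x _
  rw [if_neg]
  intro e
  apply hh
  have e2 : h = x⁻¹ * (x * h * x⁻¹) * x := by group
  rw [e2, e]
  group

theorem sum_H_char (H : Subgroup M) [H.Normal] [Fintype H] (χ : Cfsg.IrrCharacter M) :
    ∑ h : H, (χ : M → ℂ) h = if Rel H χ then 0 else (Nat.card H : ℂ) * deg χ := by
  split_ifs with hr
  · have := sum_coset_eq_zero H χ.2 hr 1
    simpa using this
  · have : ∀ h : H, (χ : M → ℂ) h = deg χ := fun h => not_rel_apply hr h.2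
    simp [this, Nat.card_eq_fintype_card]

/-- a relevant character is not constant on `H ∖ {1}` if there is another relevant character -/
theorem rel_nonconst (H : Subgroup M) [H.Normal]
    (hC : ∀ h ∈ H, h ≠ 1 → ∀ x : M, x * h = h * x → x ∈ H) {χ ξ : M → ℂ}
    (hχ : Cfsg.IsIrrCharacter M χ) (hξ : Cfsg.IsIrrCharacter M ξ) (hχr : Rel H χ) (hξr : Rel H ξ)
    (hne : χ ≠ ξ) : ∃ a ∈ H, ∃ b ∈ H, a ≠ 1 ∧ b ≠ 1 ∧ χ a ≠ χ b := by
  by_contra hcon
  push Not at hcon
  have : Fintype H := Fintype.ofFinite H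
  have hχr' := hχr
  obtain ⟨h₀, hh₀, hne₀⟩ := hχr'
  have h₀1 : h₀ ≠ 1 := by
    rintro rfl
    exact hne₀ rfl
  have hconst : ∀ h ∈ H, h ≠ 1 → χ h = χ h₀ := fun h hh h1 => hcon h hh h₀ hh₀ h1 h₀1
  have horth := classInner_irr_ne hχ hξ hne
  rw [classInner_def] at horth
  have hcardM : ((Nat.card M : ℂ))⁻¹ ≠ 0 := by
    apply inv_ne_zero
    have : Nat.card M ≠ 0 := Nat.card_pos.ne'
    exact_mod_cast this
  have hsum : ∑ g : M, χ g * conj (ξ g) = 0 := (mul_eq_zero.mp horth).resolve_left hcardM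
  have hsumH : ∑ h : H, χ h * conj (ξ h) = 0 := by
    rw [← hsum]
    have e1 : ∀ g : M, χ g * conj (ξ g) = if g ∈ H then χ g * conj (ξ g) else 0 := by
      intro g
      split_ifs with hg
      · rfl
      · rw [vanish_off H hC hχ hχr g hg, zero_mul]
    rw [Finset.sum_congr rfl (fun g _ => e1 g), ← Finset.sum_filter]
    exact (Finset.sum_subtype (Finset.univ.filter (· ∈ H)) (by simp)
      (fun g => χ g * conj (ξ g))).symm
  have hξ0 := sum_coset_eq_zero H hξ hξr 1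
  simp only [one_mul] at hξ0
  have h1 : ∑ h : H, (χ h - χ h₀) * conj (ξ h) = (χ 1 - χ h₀) * conj (ξ 1) := by
    rw [Finset.sum_eq_single (1 : H)]
    · rfl
    · intro h _ hne1
      rw [hconst h h.2 (fun e => hne1 (Subtype.ext e)), sub_self, zero_mul]
    · intro h0
      exact absurd (Finset.mem_univ _) h0
  have h2 : ∑ h : H, (χ h - χ h₀) * conj (ξ h)
      = ∑ h : H, χ h * conj (ξ h) - χ h₀ * conj (∑ h : H, ξ h) := by
    rw [map_sum, Finset.mul_sum, ← Finset.sum_sub_distrib]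
    apply Finset.sum_congr rfl
    intro h _
    ring
  rw [h2, hsumH, hξ0, map_zero, mul_zero, sub_zero] at h1
  obtain ⟨n, hn0, hn⟩ := irr_apply_one hξ
  have hξ1 : conj (ξ 1) ≠ 0 := by
    rw [hn, Complex.conj_natCast]
    exact_mod_cast hn0.ne'
  have h3 := (mul_eq_zero.mp h1.symm).resolve_right hξ1
  exact hne₀ (sub_eq_zero.mp h3).symm


variable [Fintype (Cfsg.IrrCharacter M)]

theorem sum_deg_sq : ∑ χ : Cfsg.IrrCharacter M, ((deg χ : ℂ)) ^ 2 = (Nat.card M : ℂ) := by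
  have h := column_orthogonality (1 : M) (1 : M)
  rw [colFun_one_one] at h
  rw [← h]
  apply Finset.sum_congr rfl
  intro χ _
  rw [deg_spec, Complex.conj_natCast]
  ring

/-- the non-relevant degrees: sum of squares is the index -/
theorem sum_nonrel_sq (H : Subgroup M) [H.Normal] :
    (∑ χ : Cfsg.IrrCharacter M, if Rel H χ then 0 else ((deg χ : ℂ)) ^ 2) = (H.index : ℂ) := by
  have : Fintype H := Fintype.ofFinite H
  have h1 : ∑ h : H, ∑ χ : Cfsg.IrrCharacter M, (χ : M → ℂ) h * conj ((χ : M → ℂ) 1)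
      = (Nat.card M : ℂ) := by
    rw [Finset.sum_eq_single (1 : H)]
    · rw [column_orthogonality]
      exact colFun_one_one
    · intro h _ hne
      rw [column_orthogonality]
      apply colFun_one_ne
      intro h0
      exact hne (Subtype.ext h0)
    · intro h0
      exact absurd (Finset.mem_univ _) h0
  rw [Finset.sum_comm] at h1
  have h2 : ∀ χ : Cfsg.IrrCharacter M, ∑ h : H, (χ : M → ℂ) h * conj ((χ : M → ℂ) 1)
      = (Nat.card H : ℂ) * (if Rel H χ then 0 else ((deg χ : ℂ)) ^ 2) := by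
    intro χ
    rw [← Finset.sum_mul, sum_H_char, deg_spec, Complex.conj_natCast]
    split_ifs <;> ring
  simp only [h2] at h1
  rw [← Finset.mul_sum] at h1
  have hidx : (H.index : ℂ) * (Nat.card H : ℂ) = (Nat.card M : ℂ) := by
    exact_mod_cast H.index_mul_card
  have hcard : (Nat.card H : ℂ) ≠ 0 := by
    have : Nat.card H ≠ 0 := Nat.card_pos.ne'
    exact_mod_cast this
  apply mul_left_cancel₀ hcard
  rw [h1, ← hidx]
  ring

/-- relevant characters: `∑ χ(h) χ(1) = -index` for `h ∈ H`, `h ≠ 1` -/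
theorem sum_rel_mul (H : Subgroup M) [H.Normal] {h : M} (hh : h ∈ H) (h1 : h ≠ 1) :
    (∑ χ : Cfsg.IrrCharacter M, if Rel H χ then (χ : M → ℂ) h * (deg χ : ℂ) else 0)
      = -(H.index : ℂ) := by
  have hc := column_orthogonality h (1 : M)
  rw [colFun_one_ne h1] at hc
  have hn := sum_nonrel_sq H
  have hsplit : ∑ χ : Cfsg.IrrCharacter M, (χ : M → ℂ) h * conj ((χ : M → ℂ) 1)
      = (∑ χ : Cfsg.IrrCharacter M, if Rel H χ then (χ : M → ℂ) h * (deg χ : ℂ) else 0)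
        + (∑ χ : Cfsg.IrrCharacter M, if Rel H χ then 0 else ((deg χ : ℂ)) ^ 2) := by
    rw [← Finset.sum_add_distrib]
    apply Finset.sum_congr rfl
    intro χ _
    rw [deg_spec, Complex.conj_natCast]
    split_ifs with hr
    · ring
    · rw [not_rel_apply hr hh]
      ring
  rw [hsplit, hn] at hc
  linear_combination hc

/-- sum of squares of relevant degrees, in `ℤ` -/
theorem sum_rel_sq_int (H : Subgroup M) [H.Normal] :
    (∑ χ : Cfsg.IrrCharacter M, if Rel H χ then ((deg χ : ℤ)) ^ 2 else 0)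
      = (Nat.card M : ℤ) - (H.index : ℤ) := by
  have h1 := sum_deg_sq (M := M)
  have h2 := sum_nonrel_sq H
  have h3 : (∑ χ : Cfsg.IrrCharacter M, ((deg χ : ℂ)) ^ 2)
      = (∑ χ : Cfsg.IrrCharacter M, if Rel H χ then ((deg χ : ℂ)) ^ 2 else 0)
        + (∑ χ : Cfsg.IrrCharacter M, if Rel H χ then 0 else ((deg χ : ℂ)) ^ 2) := by
    rw [← Finset.sum_add_distrib]
    apply Finset.sum_congr rfl
    intro χ _
    split_ifs <;> ring
  rw [h1, h2] at h3
  have h4 : ((∑ χ : Cfsg.IrrCharacter M, if Rel H χ then ((deg χ : ℤ)) ^ 2 else 0 : ℤ) : ℂ)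
      = (((Nat.card M : ℤ) - (H.index : ℤ) : ℤ) : ℂ) := by
    push_cast
    linear_combination -h3
  exact_mod_cast h4

/-- if `deg χ₀` divides `deg ξ * B` for all relevant `ξ`, then it divides `index * B` -/
theorem dvd_index_mul (H : Subgroup M) [H.Normal] (χ₀ : Cfsg.IrrCharacter M) (B : ℤ)
    (hdiv : ∀ ξ : Cfsg.IrrCharacter M, Rel H ξ → (deg χ₀ : ℤ) ∣ (deg ξ : ℤ) * B) :
    (deg χ₀ : ℤ) ∣ (H.index : ℤ) * B := by
  have h1 := sum_rel_sq_int H
  have h2 : (H.index : ℤ) * B = (Nat.card M : ℤ) * B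
      - ∑ χ : Cfsg.IrrCharacter M, (if Rel H χ then ((deg χ : ℤ)) ^ 2 else 0) * B := by
    rw [← Finset.sum_mul, h1]
    ring
  rw [h2]
  apply dvd_sub
  · apply Dvd.dvd.mul_right
    exact_mod_cast deg_dvd_card χ₀
  · apply Finset.dvd_sum
    intro ξ _
    split_ifs with hr
    · have := hdiv ξ hr
      have e : ((deg ξ : ℤ)) ^ 2 * B = (deg ξ : ℤ) * ((deg ξ : ℤ) * B) := by ring
      rw [e]
      exact Dvd.dvd.mul_left this _
    · simp

/-- the expansion of a class function on `H ∖ {1}` when its relevant coefficients are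
proportional to the degrees up to a correction `d`. -/
theorem expand_on_H (H : Subgroup M) [H.Normal] (Θ : M → ℂ) (hΘ : Cfsg.IsClassFunction M Θ)
    (d : Cfsg.IrrCharacter M → ℂ) (f₀ B : ℂ)
    (hrel : ∀ ξ : Cfsg.IrrCharacter M, Rel H ξ →
      f₀ * (Cfsg.classInner Θ ξ - d ξ) = (deg ξ : ℂ) * B)
    {h : M} (hh : h ∈ H) (h1 : h ≠ 1) :
    f₀ * (Θ h - (∑ ξ : Cfsg.IrrCharacter M, if Rel H ξ then d ξ * (ξ : M → ℂ) h else 0)
        - (∑ η : Cfsg.IrrCharacter M, if Rel H η then 0 else Cfsg.classInner Θ η * (deg η : ℂ)))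
      = -(H.index : ℂ) * B := by
  have hexp := congrFun (class_fun_expand Θ hΘ) h
  rw [Finset.sum_apply] at hexp
  simp only [Pi.smul_apply, smul_eq_mul] at hexp
  have hs := sum_rel_mul H hh h1
  rw [hexp, ← Finset.sum_sub_distrib, ← Finset.sum_sub_distrib, Finset.mul_sum]
  have e : ∀ χ : Cfsg.IrrCharacter M,
      f₀ * (Cfsg.classInner Θ χ * (χ : M → ℂ) h - (if Rel H χ then d χ * (χ : M → ℂ) h else 0)
        - (if Rel H χ then 0 else Cfsg.classInner Θ χ * (deg χ : ℂ)))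
      = B * (if Rel H χ then (χ : M → ℂ) h * (deg χ : ℂ) else 0) := by
    intro χ
    split_ifs with hr
    · have := hrel χ hr
      linear_combination (χ : M → ℂ) h * this
    · rw [not_rel_apply hr hh]
      ring
  simp only [e]
  rw [← Finset.mul_sum, hs]
  ring


section tifn

variable {G : Type*} [Group G] [Fintype G] (K : Subgroup G)


omit [Fintype G] in
theorem hC_sub (hC : ∀ k ∈ K, k ≠ 1 → Subgroup.centralizer ({k} : Set G) ≤ K) :
    ∀ h ∈ (K.subgroupOf (Subgroup.normalizer (K : Set G))), h ≠ 1 → ∀ x : ↥(Subgroup.normalizer (K : Set G)), x * h = h * x → x ∈ (K.subgroupOf (Subgroup.normalizer (K : Set G))) := by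
  intro h hh h1 x hx
  rw [Subgroup.mem_subgroupOf] at hh ⊢
  have h1' : (h : G) ≠ 1 := fun e => h1 (Subtype.ext e)
  apply hC _ hh h1'
  rw [Subgroup.mem_centralizer_iff]
  intro y hy
  rw [Set.mem_singleton_iff] at hy
  subst hy
  exact (congrArg Subtype.val hx).symm

omit [Fintype G] in
theorem genChar_restrict {Θ : G → ℂ} (hΘ : Cfsg.IsGeneralizedCharacter G Θ) (L : Subgroup G) :
    Cfsg.IsGeneralizedCharacter ↥L (fun n : L => Θ n) := by
  obtain ⟨χ₁, χ₂, h₁, h₂, rfl⟩ := hΘ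
  exact ⟨_, _, IsCharacter.restrict h₁ L, IsCharacter.restrict h₂ L, rfl⟩

theorem zsmul_fun {X : Type*} (a : ℤ) (f : X → ℂ) : a • f = ((a : ℂ)) • f :=
  (Int.cast_smul_eq_zsmul ℂ a f).symm

variable [Fintype ↥(Subgroup.normalizer (K : Set G))] (S : Set (↥(Subgroup.normalizer (K : Set G)) → ℂ))

omit [Fintype G] [Fintype ↥(Subgroup.normalizer (K : Set G))] in
theorem mem_S_iff
    (hS : S = {χ : ↥(Subgroup.normalizer (K : Set G)) → ℂ | Cfsg.IsIrrCharacter ↥(Subgroup.normalizer (K : Set G)) χ ∧ ∃ k : ↥(Subgroup.normalizer (K : Set G)), (k : G) ∈ K ∧ χ k ≠ χ 1})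
    (χ : ↥(Subgroup.normalizer (K : Set G)) → ℂ) : χ ∈ S ↔ Cfsg.IsIrrCharacter ↥(Subgroup.normalizer (K : Set G)) χ ∧ Rel (K.subgroupOf (Subgroup.normalizer (K : Set G))) χ := by
  rw [hS]
  exact Iff.rfl

theorem star_lin (star : (↥(Subgroup.normalizer (K : Set G)) → ℂ) → (G → ℂ)) (hstar : Cfsg.IsLinearIsometryOn (Cfsg.zspan S) star)
    {ξ ξ' : ↥(Subgroup.normalizer (K : Set G)) → ℂ} (hξ : ξ ∈ S) (hξ' : ξ' ∈ S) (a b : ℤ) :
    star (a • ξ - b • ξ') = a • star ξ - b • star ξ' := by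
  have h1 : ξ ∈ Cfsg.zspan S := Submodule.subset_span hξ
  have h2 : ξ' ∈ Cfsg.zspan S := Submodule.subset_span hξ'
  have h3 : a • ξ ∈ Cfsg.zspan S := Submodule.smul_mem _ a h1
  have h4 : (-b) • ξ' ∈ Cfsg.zspan S := Submodule.smul_mem _ (-b) h2
  have e : a • ξ - b • ξ' = a • ξ + (-b) • ξ' := by rw [neg_smul, sub_eq_add_neg]
  rw [e, hstar.1 _ h3 _ h4, hstar.2.1 _ h1, hstar.2.1 _ h2, neg_smul, sub_eq_add_neg]

omit [Fintype G] [Fintype ↥(Subgroup.normalizer (K : Set G))] in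
theorem alpha_mem_on
    (hS : S = {χ : ↥(Subgroup.normalizer (K : Set G)) → ℂ | Cfsg.IsIrrCharacter ↥(Subgroup.normalizer (K : Set G)) χ ∧ ∃ k : ↥(Subgroup.normalizer (K : Set G)), (k : G) ∈ K ∧ χ k ≠ χ 1})
    (ξ ξ' : Cfsg.IrrCharacter ↥(Subgroup.normalizer (K : Set G))) (hξ : Rel (K.subgroupOf (Subgroup.normalizer (K : Set G))) ξ) (hξ' : Rel (K.subgroupOf (Subgroup.normalizer (K : Set G))) ξ') :
    ((deg ξ' : ℤ) • (ξ : ↥(Subgroup.normalizer (K : Set G)) → ℂ) - (deg ξ : ℤ) • (ξ' : ↥(Subgroup.normalizer (K : Set G)) → ℂ))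
      ∈ Cfsg.zspanOn S ({1}ᶜ : Set ↥(Subgroup.normalizer (K : Set G))) := by
  have m1 : (ξ : ↥(Subgroup.normalizer (K : Set G)) → ℂ) ∈ S := (mem_S_iff K S hS _).mpr ⟨ξ.2, hξ⟩
  have m2 : (ξ' : ↥(Subgroup.normalizer (K : Set G)) → ℂ) ∈ S := (mem_S_iff K S hS _).mpr ⟨ξ'.2, hξ'⟩
  refine ⟨?_, ?_⟩
  · exact Submodule.sub_mem _ (Submodule.smul_mem _ _ (Submodule.subset_span m1))
      (Submodule.smul_mem _ _ (Submodule.subset_span m2))
  · intro x hx
    have hx1 : x = 1 := by simpa using hx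
    subst hx1
    simp only [Pi.sub_apply, Pi.smul_apply]
    simp only [zsmul_eq_mul, deg_spec]
    push_cast
    ring

theorem inner_star_alpha
    (hS : S = {χ : ↥(Subgroup.normalizer (K : Set G)) → ℂ | Cfsg.IsIrrCharacter ↥(Subgroup.normalizer (K : Set G)) χ ∧ ∃ k : ↥(Subgroup.normalizer (K : Set G)), (k : G) ∈ K ∧ χ k ≠ χ 1})
    (star : (↥(Subgroup.normalizer (K : Set G)) → ℂ) → (G → ℂ))
    (hext : ∀ α ∈ Cfsg.zspanOn S ({1}ᶜ : Set ↥(Subgroup.normalizer (K : Set G))), star α = Cfsg.indFun (Subgroup.normalizer (K : Set G)) α)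
    (Θ : G → ℂ) (hΘ : Cfsg.IsClassFunction G Θ)
    (ξ ξ' : Cfsg.IrrCharacter ↥(Subgroup.normalizer (K : Set G))) (hξ : Rel (K.subgroupOf (Subgroup.normalizer (K : Set G))) ξ) (hξ' : Rel (K.subgroupOf (Subgroup.normalizer (K : Set G))) ξ') :
    Cfsg.classInner Θ (star ((deg ξ' : ℤ) • (ξ : ↥(Subgroup.normalizer (K : Set G)) → ℂ) - (deg ξ : ℤ) • (ξ' : ↥(Subgroup.normalizer (K : Set G)) → ℂ)))
      = (deg ξ' : ℂ) * Cfsg.classInner (fun n : ↥(Subgroup.normalizer (K : Set G)) => Θ n) ξ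
        - (deg ξ : ℂ) * Cfsg.classInner (fun n : ↥(Subgroup.normalizer (K : Set G)) => Θ n) ξ' := by
  rw [hext _ (alpha_mem_on K S hS ξ ξ' hξ hξ')]
  rw [← classInner_conj_symm, frobenius_reciprocity _ _ Θ hΘ, classInner_conj_symm]
  rw [classInner_sub_right, zsmul_fun, zsmul_fun, classInner_smul_right, classInner_smul_right]
  simp only [Int.cast_natCast, Complex.conj_natCast]

theorem star_sub_prop
    (hTI : ∀ g : G, g ∉ (Subgroup.normalizer (K : Set G)) → ∀ k ∈ K, g * k * g⁻¹ ∈ K → k = 1)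
    (hC : ∀ k ∈ K, k ≠ 1 → Subgroup.centralizer ({k} : Set G) ≤ K)
    (hS : S = {χ : ↥(Subgroup.normalizer (K : Set G)) → ℂ | Cfsg.IsIrrCharacter ↥(Subgroup.normalizer (K : Set G)) χ ∧ ∃ k : ↥(Subgroup.normalizer (K : Set G)), (k : G) ∈ K ∧ χ k ≠ χ 1})
    (star : (↥(Subgroup.normalizer (K : Set G)) → ℂ) → (G → ℂ)) (hstar : Cfsg.IsLinearIsometryOn (Cfsg.zspan S) star)
    (hext : ∀ α ∈ Cfsg.zspanOn S ({1}ᶜ : Set ↥(Subgroup.normalizer (K : Set G))), star α = Cfsg.indFun (Subgroup.normalizer (K : Set G)) α)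
    (χ ξ : Cfsg.IrrCharacter ↥(Subgroup.normalizer (K : Set G))) (hχ : Rel (K.subgroupOf (Subgroup.normalizer (K : Set G))) χ) (hξ : Rel (K.subgroupOf (Subgroup.normalizer (K : Set G))) ξ)
    (h : ↥(Subgroup.normalizer (K : Set G))) (hh : (h : G) ∈ K) (h1 : h ≠ 1) :
    (deg ξ : ℂ) * (star χ h - (χ : ↥(Subgroup.normalizer (K : Set G)) → ℂ) h) = (deg χ : ℂ) * (star ξ h - (ξ : ↥(Subgroup.normalizer (K : Set G)) → ℂ) h) := by
  have mχ : (χ : ↥(Subgroup.normalizer (K : Set G)) → ℂ) ∈ S := (mem_S_iff K S hS _).mpr ⟨χ.2, hχ⟩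
  have mξ : (ξ : ↥(Subgroup.normalizer (K : Set G)) → ℂ) ∈ S := (mem_S_iff K S hS _).mpr ⟨ξ.2, hξ⟩
  have hα := alpha_mem_on K S hS χ ξ hχ hξ
  have e1 := hext _ hα
  rw [star_lin K S star hstar mχ mξ] at e1
  have hcl : Cfsg.IsClassFunction ↥(Subgroup.normalizer (K : Set G))
      ((deg ξ : ℤ) • (χ : ↥(Subgroup.normalizer (K : Set G)) → ℂ) - (deg χ : ℤ) • (ξ : ↥(Subgroup.normalizer (K : Set G)) → ℂ)) := by
    intro g x
    simp only [Pi.sub_apply, Pi.smul_apply]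
    rw [isClassFunction_of_isIrrCharacter χ.2 g x, isClassFunction_of_isIrrCharacter ξ.2 g x]
  have hC' := hC_sub K hC
  have hv : ∀ x : ↥(Subgroup.normalizer (K : Set G)), (x : G) ∉ (K : Set G) →
      ((deg ξ : ℤ) • (χ : ↥(Subgroup.normalizer (K : Set G)) → ℂ) - (deg χ : ℤ) • (ξ : ↥(Subgroup.normalizer (K : Set G)) → ℂ)) x = 0 := by
    intro x hx
    simp only [Pi.sub_apply, Pi.smul_apply]
    rw [vanish_off (K.subgroupOf (Subgroup.normalizer (K : Set G))) hC' χ.2 hχ x hx, vanish_off (K.subgroupOf (Subgroup.normalizer (K : Set G))) hC' ξ.2 hξ x hx]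
    simp
  have e2 := Cfsg.Agent.S0149.result (K : Set G) hTI (fun x hx => Subgroup.le_normalizer hx) _ hcl hv
    h hh h1
  have e3 := congrFun e1 (h : G)
  rw [e2] at e3
  simp only [Pi.sub_apply, Pi.smul_apply] at e3
  simp only [zsmul_eq_mul] at e3
  push_cast at e3
  linear_combination e3

theorem step_w
    (hS : S = {χ : ↥(Subgroup.normalizer (K : Set G)) → ℂ | Cfsg.IsIrrCharacter ↥(Subgroup.normalizer (K : Set G)) χ ∧ ∃ k : ↥(Subgroup.normalizer (K : Set G)), (k : G) ∈ K ∧ χ k ≠ χ 1})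
    (star : (↥(Subgroup.normalizer (K : Set G)) → ℂ) → (G → ℂ)) (hstar : Cfsg.IsLinearIsometryOn (Cfsg.zspan S) star)
    (hext : ∀ α ∈ Cfsg.zspanOn S ({1}ᶜ : Set ↥(Subgroup.normalizer (K : Set G))), star α = Cfsg.indFun (Subgroup.normalizer (K : Set G)) α)
    [Fintype (Cfsg.IrrCharacter ↥(Subgroup.normalizer (K : Set G)))]
    (χ : Cfsg.IrrCharacter ↥(Subgroup.normalizer (K : Set G))) (hχ : Rel (K.subgroupOf (Subgroup.normalizer (K : Set G))) χ) :
    ∃ w : ℤ, ∀ h : ↥(Subgroup.normalizer (K : Set G)), (h : G) ∈ K → h ≠ 1 → star χ h - (χ : ↥(Subgroup.normalizer (K : Set G)) → ℂ) h = (w : ℂ) := by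
  have mχ : (χ : ↥(Subgroup.normalizer (K : Set G)) → ℂ) ∈ S := (mem_S_iff K S hS _).mpr ⟨χ.2, hχ⟩
  have zχ : (χ : ↥(Subgroup.normalizer (K : Set G)) → ℂ) ∈ Cfsg.zspan S := Submodule.subset_span mχ
  have hgen : Cfsg.IsGeneralizedCharacter G (star χ) := hstar.2.2.2 _ zχ
  have hgenN := genChar_restrict hgen (Subgroup.normalizer (K : Set G))
  have hcl : Cfsg.IsClassFunction G (star χ) := genChar_isClassFunction hgen
  have hclN : Cfsg.IsClassFunction ↥(Subgroup.normalizer (K : Set G)) (fun n : ↥(Subgroup.normalizer (K : Set G)) => star χ n) := genChar_isClassFunction hgenN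
  have hint : ∀ η : Cfsg.IrrCharacter ↥(Subgroup.normalizer (K : Set G)),
      ∃ z : ℤ, Cfsg.classInner (fun n : ↥(Subgroup.normalizer (K : Set G)) => star χ n) η = z :=
    fun η => genChar_inner_int hgenN η.2
  choose bz hbz using hint
  have hR : ∀ ξ : Cfsg.IrrCharacter ↥(Subgroup.normalizer (K : Set G)), Rel (K.subgroupOf (Subgroup.normalizer (K : Set G))) ξ →
      (deg χ : ℂ) * ((bz ξ : ℂ) - (if ξ = χ then 1 else 0)) = (deg ξ : ℂ) * ((bz χ : ℂ) - 1) := by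
    intro ξ hξ
    have h1 := inner_star_alpha K S hS star hext (star χ) hcl ξ χ hξ hχ
    rw [hbz, hbz] at h1
    have hα : ((deg χ : ℤ) • (ξ : ↥(Subgroup.normalizer (K : Set G)) → ℂ) - (deg ξ : ℤ) • (χ : ↥(Subgroup.normalizer (K : Set G)) → ℂ)) ∈ Cfsg.zspan S :=
      (alpha_mem_on K S hS ξ χ hξ hχ).1
    have h2 := hstar.2.2.1 _ zχ _ hα
    rw [h2] at h1
    rw [classInner_sub_right, zsmul_fun, zsmul_fun, classInner_smul_right, classInner_smul_right,
      classInner_irr χ.2 ξ.2, classInner_irr_self χ.2] at h1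
    have e : ((χ : ↥(Subgroup.normalizer (K : Set G)) → ℂ) = (ξ : ↥(Subgroup.normalizer (K : Set G)) → ℂ)) ↔ ξ = χ :=
      ⟨fun h => (Subtype.ext h).symm, fun h => by rw [h]⟩
    simp only [e, Int.cast_natCast, Complex.conj_natCast] at h1
    linear_combination -h1
  have hRz : ∀ ξ : Cfsg.IrrCharacter ↥(Subgroup.normalizer (K : Set G)), Rel (K.subgroupOf (Subgroup.normalizer (K : Set G))) ξ →
      (deg χ : ℤ) * (bz ξ - (if ξ = χ then 1 else 0)) = (deg ξ : ℤ) * (bz χ - 1) := by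
    intro ξ hξ
    have := hR ξ hξ
    split_ifs at this ⊢ <;> exact_mod_cast this
  have hdvd : (deg χ : ℤ) ∣ (((K.subgroupOf (Subgroup.normalizer (K : Set G)))).index : ℤ) * (bz χ - 1) := by
    apply dvd_index_mul (K.subgroupOf (Subgroup.normalizer (K : Set G))) χ (bz χ - 1)
    intro ξ hξ
    exact ⟨bz ξ - (if ξ = χ then 1 else 0), (hRz ξ hξ).symm⟩
  obtain ⟨q, hq⟩ := hdvd
  refine ⟨(∑ η : Cfsg.IrrCharacter ↥(Subgroup.normalizer (K : Set G)), if Rel (K.subgroupOf (Subgroup.normalizer (K : Set G))) η then 0 else bz η * (deg η : ℤ)) - q, ?_⟩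
  intro h hh h1
  have h2 := expand_on_H (K.subgroupOf (Subgroup.normalizer (K : Set G))) (fun n : ↥(Subgroup.normalizer (K : Set G)) => star χ n) hclN (fun ξ => if ξ = χ then 1 else 0)
      (deg χ : ℂ) ((bz χ : ℂ) - 1) (fun ξ hξ => by rw [hbz]; exact hR ξ hξ) hh h1
  have hs1 : (∑ ξ : Cfsg.IrrCharacter ↥(Subgroup.normalizer (K : Set G)),
      if Rel (K.subgroupOf (Subgroup.normalizer (K : Set G))) ξ then (if ξ = χ then (1 : ℂ) else 0) * (ξ : ↥(Subgroup.normalizer (K : Set G)) → ℂ) h else 0)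
        = (χ : ↥(Subgroup.normalizer (K : Set G)) → ℂ) h := by
    rw [Finset.sum_eq_single χ]
    · rw [if_pos hχ, if_pos rfl, one_mul]
    · intro ξ _ hne
      rw [if_neg hne, zero_mul, ite_self]
    · intro h0
      exact absurd (Finset.mem_univ _) h0
  rw [hs1] at h2
  have hs2 : (∑ η : Cfsg.IrrCharacter ↥(Subgroup.normalizer (K : Set G)),
      if Rel (K.subgroupOf (Subgroup.normalizer (K : Set G))) η then 0 else Cfsg.classInner (fun n : ↥(Subgroup.normalizer (K : Set G)) => star χ n) η * (deg η : ℂ))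
      = ((∑ η : Cfsg.IrrCharacter ↥(Subgroup.normalizer (K : Set G)), if Rel (K.subgroupOf (Subgroup.normalizer (K : Set G))) η then 0 else bz η * (deg η : ℤ) : ℤ) : ℂ) := by
    push_cast
    apply Finset.sum_congr rfl
    intro η _
    rw [hbz]
  rw [hs2] at h2
  have hq' : (((K.subgroupOf (Subgroup.normalizer (K : Set G)))).index : ℂ) * ((bz χ : ℂ) - 1) = (deg χ : ℂ) * (q : ℂ) := by exact_mod_cast hq
  have hd := deg_ne_zero χ
  apply mul_left_cancel₀ hd
  push_cast at h2 ⊢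
  linear_combination h2 - hq'

theorem main853
    (hTI : ∀ g : G, g ∉ (Subgroup.normalizer (K : Set G)) → ∀ k ∈ K, g * k * g⁻¹ ∈ K → k = 1)
    (hC : ∀ k ∈ K, k ≠ 1 → Subgroup.centralizer ({k} : Set G) ≤ K)
    (hS : S = {χ : ↥(Subgroup.normalizer (K : Set G)) → ℂ | Cfsg.IsIrrCharacter ↥(Subgroup.normalizer (K : Set G)) χ ∧ ∃ k : ↥(Subgroup.normalizer (K : Set G)), (k : G) ∈ K ∧ χ k ≠ χ 1})
    (htwo : ∃ χ ∈ S, ∃ ξ ∈ S, χ ≠ ξ)
    (star : (↥(Subgroup.normalizer (K : Set G)) → ℂ) → (G → ℂ)) (hstar : Cfsg.IsLinearIsometryOn (Cfsg.zspan S) star)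
    (hext : ∀ α ∈ Cfsg.zspanOn S ({1}ᶜ : Set ↥(Subgroup.normalizer (K : Set G))), star α = Cfsg.indFun (Subgroup.normalizer (K : Set G)) α) :
    ∃ m : ℤ, ∀ χ ∈ S, ∀ k : ↥(Subgroup.normalizer (K : Set G)), (k : G) ∈ K → k ≠ 1 →
      star χ k - χ k = (m : ℂ) * χ 1 / (((K.subgroupOf (Subgroup.normalizer (K : Set G)))).index : ℂ) := by
  have : Fintype (Cfsg.IrrCharacter ↥(Subgroup.normalizer (K : Set G))) := Fintype.ofFinite _
  obtain ⟨χ₀f, hχ₀S, -⟩ := htwo
  obtain ⟨hχ₀irr, hχ₀rel⟩ := (mem_S_iff K S hS _).mp hχ₀S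
  have hw := fun (χ : Cfsg.IrrCharacter ↥(Subgroup.normalizer (K : Set G))) (hχ : Rel (K.subgroupOf (Subgroup.normalizer (K : Set G))) χ) =>
    step_w K S hS star hstar hext χ hχ
  obtain ⟨w₀, hw₀⟩ := hw ⟨χ₀f, hχ₀irr⟩ hχ₀rel
  have hχ₀rel' := hχ₀rel
  obtain ⟨h₀, hh₀, hne₀⟩ := hχ₀rel'
  have h₀1 : h₀ ≠ 1 := by
    rintro rfl
    exact hne₀ rfl
  have hdvd : (deg (⟨χ₀f, hχ₀irr⟩ : Cfsg.IrrCharacter ↥(Subgroup.normalizer (K : Set G))) : ℤ) ∣ (((K.subgroupOf (Subgroup.normalizer (K : Set G)))).index : ℤ) * w₀ := by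
    apply dvd_index_mul (K.subgroupOf (Subgroup.normalizer (K : Set G))) ⟨χ₀f, hχ₀irr⟩ w₀
    intro ξ hξ
    obtain ⟨wξ, hwξ⟩ := hw ξ hξ
    have h2 := star_sub_prop K S hTI hC hS star hstar hext ⟨χ₀f, hχ₀irr⟩ ξ hχ₀rel hξ h₀ hh₀ h₀1
    rw [hw₀ h₀ hh₀ h₀1, hwξ h₀ hh₀ h₀1] at h2
    exact ⟨wξ, by exact_mod_cast h2⟩
  obtain ⟨m, hm⟩ := hdvd
  refine ⟨m, ?_⟩
  intro χf hχS k hk hk1
  obtain ⟨hχirr, hχrel⟩ := (mem_S_iff K S hS _).mp hχS
  have h2 := star_sub_prop K S hTI hC hS star hstar hext ⟨χ₀f, hχ₀irr⟩ ⟨χf, hχirr⟩ hχ₀rel hχrel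
    k hk hk1
  rw [hw₀ k hk hk1] at h2
  have hm' : (((K.subgroupOf (Subgroup.normalizer (K : Set G)))).index : ℂ) * (w₀ : ℂ)
      = (deg (⟨χ₀f, hχ₀irr⟩ : Cfsg.IrrCharacter ↥(Subgroup.normalizer (K : Set G))) : ℂ) * (m : ℂ) := by exact_mod_cast hm
  have hidx : (((K.subgroupOf (Subgroup.normalizer (K : Set G)))).index : ℂ) ≠ 0 := by
    have : ((K.subgroupOf (Subgroup.normalizer (K : Set G)))).index ≠ 0 := Subgroup.index_ne_zero_of_finite
    exact_mod_cast this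
  have hd := deg_ne_zero (⟨χ₀f, hχ₀irr⟩ : Cfsg.IrrCharacter ↥(Subgroup.normalizer (K : Set G)))
  have hdeg : χf 1 = (deg (⟨χf, hχirr⟩ : Cfsg.IrrCharacter ↥(Subgroup.normalizer (K : Set G))) : ℂ) := deg_spec ⟨χf, hχirr⟩
  rw [hdeg, eq_div_iff hidx]
  apply mul_left_cancel₀ hd
  change (deg (⟨χf, hχirr⟩ : Cfsg.IrrCharacter ↥(Subgroup.normalizer (K : Set G))) : ℂ) * (w₀ : ℂ)
    = (deg (⟨χ₀f, hχ₀irr⟩ : Cfsg.IrrCharacter ↥(Subgroup.normalizer (K : Set G))) : ℂ) * (star χf k - χf k) at h2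
  linear_combination (-(((K.subgroupOf (Subgroup.normalizer (K : Set G)))).index : ℂ)) * h2
    + (deg (⟨χf, hχirr⟩ : Cfsg.IrrCharacter ↥(Subgroup.normalizer (K : Set G))) : ℂ) * hm'

theorem main852
    (hC : ∀ k ∈ K, k ≠ 1 → Subgroup.centralizer ({k} : Set G) ≤ K)
    (hS : S = {χ : ↥(Subgroup.normalizer (K : Set G)) → ℂ | Cfsg.IsIrrCharacter ↥(Subgroup.normalizer (K : Set G)) χ ∧ ∃ k : ↥(Subgroup.normalizer (K : Set G)), (k : G) ∈ K ∧ χ k ≠ χ 1})
    (htwo : ∃ χ ∈ S, ∃ ξ ∈ S, χ ≠ ξ)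
    (star : (↥(Subgroup.normalizer (K : Set G)) → ℂ) → (G → ℂ)) (hstar : Cfsg.IsLinearIsometryOn (Cfsg.zspan S) star)
    (hext : ∀ α ∈ Cfsg.zspanOn S ({1}ᶜ : Set ↥(Subgroup.normalizer (K : Set G))), star α = Cfsg.indFun (Subgroup.normalizer (K : Set G)) α)
    (ψ : G → ℂ) (hψ : Cfsg.IsIrrCharacter G ψ) :
    (∃ χ ∈ S, ψ = star χ ∨ ψ = -star χ) ↔ ∃ a ∈ K, ∃ b ∈ K, a ≠ 1 ∧ b ≠ 1 ∧ ψ a ≠ ψ b := by
  have : Fintype (Cfsg.IrrCharacter ↥(Subgroup.normalizer (K : Set G))) := Fintype.ofFinite _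
  have hC' := hC_sub K hC
  constructor
  · rintro ⟨χf, hχS, hψχ⟩
    obtain ⟨hχirr, hχrel⟩ := (mem_S_iff K S hS _).mp hχS
    obtain ⟨ξf, hξS, hneξ⟩ : ∃ ξ ∈ S, χf ≠ ξ := by
      obtain ⟨x, hx, y, hy, hxy⟩ := htwo
      by_cases h : χf = x
      · exact ⟨y, hy, by rw [h]; exact hxy⟩
      · exact ⟨x, hx, h⟩
    obtain ⟨hξirr, hξrel⟩ := (mem_S_iff K S hS _).mp hξS
    obtain ⟨a, ha, b, hb, ha1, hb1, hab⟩ := rel_nonconst (K.subgroupOf (Subgroup.normalizer (K : Set G))) hC' hχirr hξirr hχrel hξrel hneξ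
    obtain ⟨w, hw⟩ := step_w K S hS star hstar hext ⟨χf, hχirr⟩ hχrel
    have e1 : star χf (a : G) - χf a = (w : ℂ) := hw a ha ha1
    have e2 : star χf (b : G) - χf b = (w : ℂ) := hw b hb hb1
    have hne : star χf (a : G) ≠ star χf (b : G) := by
      intro heq
      apply hab
      linear_combination heq - e1 + e2
    refine ⟨a, ha, b, hb, ?_, ?_, ?_⟩
    · intro h
      exact ha1 (Subtype.ext h)
    · intro h
      exact hb1 (Subtype.ext h)
    · rcases hψχ with h | h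
      · rw [h]
        exact hne
      · rw [h]
        simp only [Pi.neg_apply]
        intro heq
        exact hne (neg_injective heq)
  · rintro ⟨a, ha, b, hb, ha1, hb1, hab⟩
    by_contra hcon
    push Not at hcon
    apply hab
    have hψgen : Cfsg.IsGeneralizedCharacter G ψ :=
      Cfsg.Agent.Lib.Helper12.isGeneralizedCharacter_of_isCharacter (isCharacter_of_isIrrCharacter hψ)
    have hψcl := isClassFunction_of_isIrrCharacter hψ
    have hψ1 := classInner_irr_self hψ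
    have hzero : ∀ ξ : Cfsg.IrrCharacter ↥(Subgroup.normalizer (K : Set G)), Rel (K.subgroupOf (Subgroup.normalizer (K : Set G))) ξ → Cfsg.classInner ψ (star ξ) = 0 := by
      intro ξ hξ
      have mξ : (ξ : ↥(Subgroup.normalizer (K : Set G)) → ℂ) ∈ S := (mem_S_iff K S hS _).mpr ⟨ξ.2, hξ⟩
      have zξ : (ξ : ↥(Subgroup.normalizer (K : Set G)) → ℂ) ∈ Cfsg.zspan S := Submodule.subset_span mξ
      by_contra hne
      have hgen := hstar.2.2.2 _ zξ
      have hnorm : Cfsg.classInner (star ξ) (star ξ) = 1 := by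
        rw [hstar.2.2.1 _ zξ _ zξ]
        exact classInner_irr_self ξ.2
      rcases Cfsg.Agent.Lib.Helper12.genChar_norm_one_eq_or_neg hψgen hgen hψ1 hnorm hne with h | h
      · exact (hcon _ mξ).1 h
      · exact (hcon _ mξ).2 h
    obtain ⟨χ₀f, hχ₀S, -⟩ := htwo
    obtain ⟨hχ₀irr, hχ₀rel⟩ := (mem_S_iff K S hS _).mp hχ₀S
    have hrel : ∀ ξ : Cfsg.IrrCharacter ↥(Subgroup.normalizer (K : Set G)), Rel (K.subgroupOf (Subgroup.normalizer (K : Set G))) ξ →
        (deg (⟨χ₀f, hχ₀irr⟩ : Cfsg.IrrCharacter ↥(Subgroup.normalizer (K : Set G))) : ℂ)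
            * (Cfsg.classInner (fun n : ↥(Subgroup.normalizer (K : Set G)) => ψ n) ξ - (fun _ => (0 : ℂ)) ξ)
          = (deg ξ : ℂ) * Cfsg.classInner (fun n : ↥(Subgroup.normalizer (K : Set G)) => ψ n)
              ((⟨χ₀f, hχ₀irr⟩ : Cfsg.IrrCharacter ↥(Subgroup.normalizer (K : Set G))) : ↥(Subgroup.normalizer (K : Set G)) → ℂ) := by
      intro ξ hξ
      have h1 := inner_star_alpha K S hS star hext ψ hψcl ξ ⟨χ₀f, hχ₀irr⟩ hξ hχ₀rel
      have mξ : (ξ : ↥(Subgroup.normalizer (K : Set G)) → ℂ) ∈ S := (mem_S_iff K S hS _).mpr ⟨ξ.2, hξ⟩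
      rw [star_lin K S star hstar mξ hχ₀S, classInner_sub_right, zsmul_fun, zsmul_fun,
        classInner_smul_right, classInner_smul_right, hzero ξ hξ,
        hzero ⟨χ₀f, hχ₀irr⟩ hχ₀rel] at h1
      simp only [mul_zero, sub_zero] at h1
      linear_combination -h1
    have hclN : Cfsg.IsClassFunction ↥(Subgroup.normalizer (K : Set G)) (fun n : ↥(Subgroup.normalizer (K : Set G)) => ψ n) :=
      fun g x => hψcl (g : G) (x : G)
    have key := fun (h : ↥(Subgroup.normalizer (K : Set G))) (hh : (h : G) ∈ K) (h1 : h ≠ 1) =>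
      expand_on_H (K.subgroupOf (Subgroup.normalizer (K : Set G))) (fun n : ↥(Subgroup.normalizer (K : Set G)) => ψ n) hclN (fun _ => 0)
        (deg (⟨χ₀f, hχ₀irr⟩ : Cfsg.IrrCharacter ↥(Subgroup.normalizer (K : Set G))) : ℂ) _ hrel hh h1
    have haN : a ∈ (Subgroup.normalizer (K : Set G)) := Subgroup.le_normalizer ha
    have hbN : b ∈ (Subgroup.normalizer (K : Set G)) := Subgroup.le_normalizer hb
    have ka := key ⟨a, haN⟩ ha (fun h => ha1 (congrArg Subtype.val h))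
    have kb := key ⟨b, hbN⟩ hb (fun h => hb1 (congrArg Subtype.val h))
    have hd := deg_ne_zero (⟨χ₀f, hχ₀irr⟩ : Cfsg.IrrCharacter ↥(Subgroup.normalizer (K : Set G)))
    simp only [zero_mul, ite_self, Finset.sum_const_zero, sub_zero] at ka kb
    have h3 := mul_left_cancel₀ hd (ka.trans kb.symm)
    linear_combination h3

end tifn

end

end Cfsg.Agent.Lib.Lead.TIFN
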