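import Mathlib
import Cfsg.Prelude.Def_Characters
import Cfsg.Agent.Lib.Lead.TIFN
import Cfsg.Agent.Lib.Helper8.LinCharAux
import Cfsg.Agent.Lib.Helper2.CharClifford
import Cfsg.Agent.Lib.Helper2.CharMore
import Cfsg.Agent.Lib.Helper2.AbSylow
import Cfsg.Agent.S0170

set_option autoImplicit false

/-!
Abelian Frobenius kernels: the relevant irreducible characters have degree the index, and the
exceptional-character statement for an abelian T.I. subgroup with Frobenius normalizer.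
-/

namespace Cfsg.Agent.Lib.Lead.TIFN

open Cfsg.Agent.Lib.Helper2
open scoped ComplexConjugate
open Classical

noncomputable section

variable {M : Type*} [Group M] [Fintype M]

/-- for `x ∉ H`, every element of `H` is a commutator `x h x⁻¹ h⁻¹` with `h ∈ H` -/
theorem comm_surj (H : Subgroup M) [H.Normal]
    (hC : ∀ h ∈ H, h ≠ 1 → ∀ x : M, x * h = h * x → x ∈ H) (x : M) (hx : x ∉ H)
    (k : M) (hk : k ∈ H) : ∃ h ∈ H, x * h * x⁻¹ * h⁻¹ = k := by
  have hmem : ∀ h : H, x * (h : M) * x⁻¹ * (h : M)⁻¹ ∈ H := fun h =>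
    H.mul_mem ((inferInstance : H.Normal).conj_mem h.1 h.2 x) (H.inv_mem h.2)
  let c : H → H := fun h => ⟨x * (h : M) * x⁻¹ * (h : M)⁻¹, hmem h⟩
  have hinj : Function.Injective c := by
    intro h₁ h₂ h12
    have e : x * (h₁ : M) * x⁻¹ * (h₁ : M)⁻¹ = x * (h₂ : M) * x⁻¹ * (h₂ : M)⁻¹ :=
      congrArg Subtype.val h12
    by_contra hne12
    apply hx
    have hh : (h₂ : M)⁻¹ * (h₁ : M) ∈ H := H.mul_mem (H.inv_mem h₂.2) h₁.2
    have hh1 : (h₂ : M)⁻¹ * (h₁ : M) ≠ 1 := by
      intro h0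
      exact hne12 (Subtype.ext (inv_mul_eq_one.mp h0).symm)
    apply hC _ hh hh1 x
    have e2 : (h₁ : M) * x⁻¹ * (h₁ : M)⁻¹ = (h₂ : M) * x⁻¹ * (h₂ : M)⁻¹ := by
      have := congrArg (fun z => x⁻¹ * z) e
      simpa [mul_assoc] using this
    have e3 : (h₂ : M)⁻¹ * (h₁ : M) * x⁻¹ = x⁻¹ * ((h₂ : M)⁻¹ * (h₁ : M)) := by
      calc (h₂ : M)⁻¹ * (h₁ : M) * x⁻¹
          = (h₂ : M)⁻¹ * ((h₁ : M) * x⁻¹ * (h₁ : M)⁻¹) * (h₁ : M) := by group
        _ = (h₂ : M)⁻¹ * ((h₂ : M) * x⁻¹ * (h₂ : M)⁻¹) * (h₁ : M) := by rw [e2]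
        _ = x⁻¹ * ((h₂ : M)⁻¹ * (h₁ : M)) := by group
    calc x * ((h₂ : M)⁻¹ * (h₁ : M))
        = x * ((h₂ : M)⁻¹ * (h₁ : M) * x⁻¹) * x := by group
      _ = x * (x⁻¹ * ((h₂ : M)⁻¹ * (h₁ : M))) * x := by rw [e3]
      _ = (h₂ : M)⁻¹ * (h₁ : M) * x := by group
  have hsurj : Function.Surjective c := Finite.injective_iff_surjective.mp hinj
  obtain ⟨h, hh⟩ := hsurj ⟨k, hk⟩
  exact ⟨h, h.2, congrArg Subtype.val hh⟩

/-- abelian Frobenius kernel: the relevant irreducible characters have degree `|M : H|` -/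
theorem deg_eq_index (H : Subgroup M) [H.Normal]
    (hC : ∀ h ∈ H, h ≠ 1 → ∀ x : M, x * h = h * x → x ∈ H)
    (hab : ∀ a b : H, a * b = b * a) {χ : M → ℂ} (hχ : Cfsg.IsIrrCharacter M χ)
    (hr : Rel H χ) : χ 1 = (H.index : ℂ) := by
  have : Fintype H := Fintype.ofFinite H
  have hres : Cfsg.IsCharacter H (fun h : H => χ h) :=
    IsCharacter.restrict (isCharacter_of_isIrrCharacter hχ) H
  have hres0 : (fun h : H => χ h) ≠ 0 := by
    intro h0
    have h1 := congrFun h0 1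
    obtain ⟨n, hn0, hn⟩ := irr_apply_one hχ
    simp only [Subgroup.coe_one, Pi.zero_apply] at h1
    rw [hn] at h1
    exact hn0.ne' (by exact_mod_cast h1)
  obtain ⟨lam, hlam, hcon⟩ := exists_irr_constituent hres hres0
  have hlam1 : lam 1 = 1 := irr_deg_one_of_comm hab hlam
  have hlamc := isCharacter_of_isIrrCharacter hlam
  have hlamcl := isClassFunction_of_isIrrCharacter hlam
  have hnt : ∃ k : H, lam k ≠ 1 := by
    by_contra hall
    push Not at hall
    apply hcon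
    rw [classInner_def]
    have e : ∑ g : H, (fun h : H => χ h) g * conj (lam g) = ∑ h : H, χ h := by
      apply Finset.sum_congr rfl
      intro g _
      rw [hall g, map_one, mul_one]
    rw [e]
    have h0 := sum_coset_eq_zero H hχ hr 1
    simp only [one_mul] at h0
    rw [h0, mul_zero]
  have hinert : ∀ x : M, Cfsg.Agent.Lib.Helper2.conjFun H lam x = lam → x ∈ H := by
    intro x hx
    by_contra hxH
    obtain ⟨k, hk⟩ := hnt
    apply hk
    obtain ⟨h, hh, hhk⟩ := comm_surj H hC x hxH k k.2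
    have e1 := congrFun hx ⟨h, hh⟩
    rw [conjFun_apply] at e1
    have e2 : k = ⟨x * h * x⁻¹, (inferInstance : H.Normal).conj_mem h hh x⟩ * (⟨h, hh⟩ : H)⁻¹ := by
      apply Subtype.ext
      rw [← hhk]
      rfl
    rw [e2, Cfsg.Agent.Lib.Helper8.linChar_mul lam hlamc hlam1, e1, mul_comm]
    exact Cfsg.Agent.Lib.Helper8.linChar_inv_mul lam hlamc hlam1 _
  have hnorm : Cfsg.classInner (Cfsg.indFun H lam) (Cfsg.indFun H lam) = 1 := by
    rw [frobenius_reciprocity H lam _ (indFun_isClassFunction H lam), ← classInner_conj_symm,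
      indFun_restrict_normal, classInner_smul_left, classInner_sum_left]
    have e : ∀ x : M, Cfsg.classInner (Cfsg.Agent.Lib.Helper2.conjFun H lam x⁻¹) lam = if x ∈ H then 1 else 0 := by
      intro x
      rw [classInner_irr (conjFun_irr H hlam x⁻¹) hlam]
      by_cases hx : x ∈ H
      · rw [if_pos hx, if_pos (conjFun_of_mem H hlamcl (H.inv_mem hx))]
      · rw [if_neg hx, if_neg]
        intro h
        apply hx
        have h2 := H.inv_mem (hinert _ h)
        rwa [inv_inv] at h2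
    simp only [e]
    have e2 : ∑ x : M, (if x ∈ H then (1 : ℂ) else 0) = (Nat.card H : ℂ) := by
      rw [← Finset.sum_filter]
      have h3 : ∑ x ∈ Finset.univ.filter (· ∈ H), (1 : ℂ) = ∑ _h : H, (1 : ℂ) :=
        Finset.sum_subtype (Finset.univ.filter (· ∈ H)) (by simp) (fun _ => (1 : ℂ))
      rw [h3]
      simp [Nat.card_eq_fintype_card]
    rw [e2]
    have hcard : (Nat.card H : ℂ) ≠ 0 := by
      have : Nat.card H ≠ 0 := Nat.card_pos.ne'
      exact_mod_cast this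
    rw [inv_mul_cancel₀ hcard, map_one]
  have hirr := isIrrCharacter_of_norm_one (indFun_isCharacter H hlamc) hnorm
  have hne : Cfsg.classInner (Cfsg.indFun H lam) χ ≠ 0 := by
    rw [frobenius_reciprocity H lam χ (isClassFunction_of_isIrrCharacter hχ),
      ← classInner_conj_symm]
    intro h0
    exact hcon ((map_eq_zero _).mp h0)
  have heq : Cfsg.indFun H lam = χ := by
    by_contra hne'
    exact hne (classInner_irr_ne hirr hχ hne')
  rw [← heq, indFun_apply_one, hlam1, mul_one]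

section tifn

variable {G : Type*} [Group G] [Fintype G] (K : Subgroup G)

theorem main851
    (hTI : ∀ g : G, g ∉ (Subgroup.normalizer (K : Set G)) → ∀ k ∈ K, g * k * g⁻¹ ∈ K → k = 1)
    (hC : ∀ k ∈ K, k ≠ 1 → Subgroup.centralizer ({k} : Set G) ≤ K)
    (hab : ∀ a ∈ K, ∀ b ∈ K, a * b = b * a) :
    ∃ (ε : ℂ) (f : {χ : Cfsg.IrrCharacter (Subgroup.normalizer (K : Set G)) //
        ∃ k : (Subgroup.normalizer (K : Set G)), (k : G) ∈ K ∧ (χ : ↥(Subgroup.normalizer (K : Set G)) → ℂ) k ≠ (χ : ↥(Subgroup.normalizer (K : Set G)) → ℂ) 1} → Cfsg.IrrCharacter G),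
      (ε = 1 ∨ ε = -1) ∧ Function.Injective f ∧
      ∀ χ ξ, Cfsg.indFun (Subgroup.normalizer (K : Set G)) ((χ.1 : ↥(Subgroup.normalizer (K : Set G)) → ℂ) - (ξ.1 : ↥(Subgroup.normalizer (K : Set G)) → ℂ))
        = ε • ((f χ : G → ℂ) - (f ξ : G → ℂ)) := by
  have hC' := hC_sub K hC
  have habH : ∀ a b : ↥(K.subgroupOf (Subgroup.normalizer (K : Set G))), a * b = b * a :=
    fun a b => Subtype.ext (Subtype.ext (hab _ a.2 _ b.2))
  by_cases hn : 2 ≤ Nat.card {χ : Cfsg.IrrCharacter (Subgroup.normalizer (K : Set G)) //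
        ∃ k : (Subgroup.normalizer (K : Set G)), (k : G) ∈ K ∧ (χ : ↥(Subgroup.normalizer (K : Set G)) → ℂ) k ≠ (χ : ↥(Subgroup.normalizer (K : Set G)) → ℂ) 1}
  · let e := Finite.equivFin {χ : Cfsg.IrrCharacter (Subgroup.normalizer (K : Set G)) //
        ∃ k : (Subgroup.normalizer (K : Set G)), (k : G) ∈ K ∧ (χ : ↥(Subgroup.normalizer (K : Set G)) → ℂ) k ≠ (χ : ↥(Subgroup.normalizer (K : Set G)) → ℂ) 1}
    obtain ⟨ε, hε, θ, hθirr, hθinj, hθ⟩ := Cfsg.Agent.S0170.result (K : Set G)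
      (fun x hx => Subgroup.le_normalizer hx) hTI _ hn
      (fun i => (((e.symm i).1 : Cfsg.IrrCharacter (Subgroup.normalizer (K : Set G))) : ↥(Subgroup.normalizer (K : Set G)) → ℂ))
      (fun i => (e.symm i).1.2)
      (fun i j hij => e.symm.injective (Subtype.ext (Subtype.ext hij)))
      (fun i x hx => vanish_off (K.subgroupOf (Subgroup.normalizer (K : Set G))) hC' (e.symm i).1.2 (e.symm i).2 x hx)
      (fun i j => by
        rw [deg_eq_index (K.subgroupOf (Subgroup.normalizer (K : Set G))) hC' habH (e.symm i).1.2 (e.symm i).2,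
          deg_eq_index (K.subgroupOf (Subgroup.normalizer (K : Set G))) hC' habH (e.symm j).1.2 (e.symm j).2])
    refine ⟨ε, fun χ => ⟨θ (e χ), hθirr (e χ)⟩, hε, ?_, ?_⟩
    · intro χ ξ h
      have h2 : θ (e χ) = θ (e ξ) := congrArg Subtype.val h
      exact e.injective (hθinj h2)
    · intro χ ξ
      have h2 := hθ (e χ) (e ξ)
      simp only [Equiv.symm_apply_apply] at h2
      rw [Cfsg.Agent.S0170.indFun_sub', h2]
  · have hsub : Subsingleton {χ : Cfsg.IrrCharacter (Subgroup.normalizer (K : Set G)) //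
        ∃ k : (Subgroup.normalizer (K : Set G)), (k : G) ∈ K ∧ (χ : ↥(Subgroup.normalizer (K : Set G)) → ℂ) k ≠ (χ : ↥(Subgroup.normalizer (K : Set G)) → ℂ) 1} :=
      Finite.card_le_one_iff_subsingleton.mp (by omega)
    refine ⟨1, fun _ => ⟨fun _ => 1, isIrrCharacter_one⟩, Or.inl rfl, ?_, ?_⟩
    · intro χ ξ _
      exact Subsingleton.elim χ ξ
    · intro χ ξ
      rw [Subsingleton.elim χ ξ, Cfsg.Agent.S0170.indFun_sub', sub_self, sub_self, smul_zero]

end tifn

end

end Cfsg.Agent.Lib.Lead.TIFN
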