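import Mathlib

/-!
Fixed-point-free actions on commutative groups: groups acting by automorphisms on a nontrivial
finite commutative group such that no nonidentity element has a nonidentity fixed point.
-/

namespace Cfsg.Agent.Lib.Lead

open Finset

section Fpf

variable {A W : Type*} [Group A] [CommGroup W] [MulDistribMulAction A W]

/-- The action of `A` on `W` is fixed-point-free. -/
def FpfAct (A W : Type*) [Group A] [CommGroup W] [MulDistribMulAction A W] : Prop :=
  ∀ a : A, a ≠ 1 → ∀ w : W, a • w = w → w = 1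

theorem fpf_norm_range (h : FpfAct A W) {g : A} (hg : g ≠ 1) {n : ℕ} (hn : g ^ n = 1) (w : W) :
    ∏ j ∈ Finset.range n, g ^ j • w = 1 := by
  apply h g hg
  rw [Finset.smul_prod']
  have e1 : ∀ j ∈ Finset.range n, g • g ^ j • w = g ^ (j + 1) • w := by
    intro j _
    rw [smul_smul, ← pow_succ']
  rw [Finset.prod_congr rfl e1]
  have e2 := Finset.prod_range_succ' (fun j => g ^ j • w) n
  have e3 := Finset.prod_range_succ (fun j => g ^ j • w) n
  rw [e3] at e2
  simp only [hn, pow_zero, one_smul] at e2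
  exact (mul_right_cancel e2).symm

theorem fpf_prod_mul (h : FpfAct A W) {Q : Type*} [Group Q] [Fintype Q] (ψ : Q → A)
    (hψ : ∀ c d : Q, ψ (c * d) = ψ c * ψ d) (hψ1 : ∃ c : Q, ψ c ≠ 1) (w : W) :
    ∏ q : Q, ψ q • w = 1 := by
  obtain ⟨c, hc⟩ := hψ1
  apply h (ψ c) hc
  rw [Finset.smul_prod']
  have e1 : ∀ q ∈ (Finset.univ : Finset Q), ψ c • ψ q • w = ψ (c * q) • w := by
    intro q _
    rw [smul_smul, ← hψ]
  rw [Finset.prod_congr rfl e1]
  exact Fintype.prod_equiv (Equiv.mulLeft c) _ _ (fun a => rfl)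

/-- The double counting lemma. -/
theorem fpf_pow_card (h : FpfAct A W) {Q : Type*} [Group Q] [Fintype Q] (r : ℕ) (hr : 0 < r)
    (g : Q → A) (hg1 : ∀ q, g q ≠ 1) (hgr : ∀ q, g q ^ r = 1)
    (ψ : ℕ → Q → A) (t : ℕ → A)
    (hψ : ∀ j, 0 < j → j < r → ∀ c d : Q, ψ j (c * d) = ψ j c * ψ j d)
    (hψ1 : ∀ j, 0 < j → j < r → ∃ c : Q, ψ j c ≠ 1)
    (hgψ : ∀ j, 0 < j → j < r → ∀ q : Q, g q ^ j = ψ j q * t j) (w : W) :
    w ^ Fintype.card Q = 1 := by
  have e1 : ∏ q : Q, ∏ j ∈ Finset.range r, g q ^ j • w = 1 :=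
    Finset.prod_eq_one (fun q _ => fpf_norm_range h (hg1 q) (hgr q) w)
  rw [Finset.prod_comm] at e1
  obtain ⟨r', rfl⟩ : ∃ r', r = r' + 1 := ⟨r - 1, by omega⟩
  rw [Finset.prod_range_succ'] at e1
  have e2 : ∏ k ∈ Finset.range r', ∏ q : Q, g q ^ (k + 1) • w = 1 := by
    apply Finset.prod_eq_one
    intro k hk
    have hk' : k + 1 < r' + 1 := by
      have := Finset.mem_range.mp hk
      omega
    have e3 : ∀ q ∈ (Finset.univ : Finset Q), g q ^ (k + 1) • w = ψ (k + 1) q • (t (k + 1) • w) := by
      intro q _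
      rw [hgψ (k + 1) (Nat.succ_pos k) hk' q, mul_smul]
    rw [Finset.prod_congr rfl e3]
    exact fpf_prod_mul h (ψ (k + 1)) (hψ (k + 1) (Nat.succ_pos k) hk')
      (hψ1 (k + 1) (Nat.succ_pos k) hk') _
  rw [e2, one_mul] at e1
  simpa using e1

/-- An element of prime order `q` cannot act fixed-point-freely when `q` divides the order. -/
theorem fpf_prime_not_dvd [Finite W] (h : FpfAct A W) (x : A) (q : ℕ) [hq : Fact q.Prime]
    (hx : x ≠ 1) (hxq : x ^ q = 1) (hdvd : q ∣ Nat.card W) : False := by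
  classical
  let S : SubMulAction (Subgroup.zpowers x) W :=
    { carrier := {w | w ^ q = 1}
      smul_mem' := by
        intro c w hw
        show (c • w) ^ q = 1
        rw [← smul_pow', show w ^ q = 1 from hw, smul_one] }
  have hP : IsPGroup q (Subgroup.zpowers x) := by
    apply IsPGroup.of_card (n := 1)
    rw [Nat.card_zpowers, orderOf_eq_prime hxq hx, pow_one]
  have key := hP.card_modEq_card_fixedPoints S
  have hfix : Nat.card (MulAction.fixedPoints (Subgroup.zpowers x) S) = 1 := by
    rw [Nat.card_eq_one_iff_unique]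
    refine ⟨⟨?_⟩, ⟨⟨⟨1, one_pow q⟩, ?_⟩⟩⟩
    · rintro ⟨⟨a, ha⟩, ha'⟩ ⟨⟨b, hb⟩, hb'⟩
      have h1 : a = 1 := by
        apply h x hx
        have := ha' ⟨x, Subgroup.mem_zpowers x⟩
        exact congrArg Subtype.val this
      have h2 : b = 1 := by
        apply h x hx
        have := hb' ⟨x, Subgroup.mem_zpowers x⟩
        exact congrArg Subtype.val this
      subst h1 h2
      rfl
    · intro c
      apply Subtype.ext
      show c • (1 : W) = 1
      exact smul_one c
  have hS : q ∣ Nat.card S := by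
    have e : Nat.card S = Nat.card (powMonoidHom q : W →* W).ker :=
      Nat.card_congr (Equiv.subtypeEquivRight (fun w => by
        rw [MonoidHom.mem_ker]; rfl))
    rw [e]
    have hPk : IsPGroup q (powMonoidHom q : W →* W).ker := by
      intro w
      refine ⟨1, ?_⟩
      have := w.2
      rw [MonoidHom.mem_ker, powMonoidHom_apply] at this
      apply Subtype.ext
      rw [pow_one]
      exact this
    rcases hPk.card_eq_or_dvd with h1 | h1
    · exfalso
      obtain ⟨w, hw⟩ := exists_prime_orderOf_dvd_card' q hdvd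
      have hwk : w ∈ (powMonoidHom q : W →* W).ker := by
        rw [MonoidHom.mem_ker, powMonoidHom_apply, ← hw, pow_orderOf_eq_one]
      have hsub := (Nat.card_eq_one_iff_unique.mp h1).1
      have : (⟨w, hwk⟩ : (powMonoidHom q : W →* W).ker) = 1 := Subsingleton.elim _ _
      have hw1 : w = 1 := congrArg Subtype.val this
      rw [hw1, orderOf_one] at hw
      exact hq.out.ne_one hw.symm
    · exact h1
  rw [hfix] at key
  have h0 : Nat.card S ≡ 0 [MOD q] := (Nat.modEq_zero_iff_dvd).mpr hS
  have h1 : (0 : ℕ) ≡ 1 [MOD q] := h0.symm.trans key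
  have h2 : q ∣ 1 := (Nat.modEq_zero_iff_dvd).mp h1.symm
  exact hq.out.ne_one (Nat.dvd_one.mp h2)

/-- If every element of `W` has `q`-th power one (with `W` nontrivial) then no element of order
`q` can act fixed-point-freely. -/
theorem fpf_prime_exponent [Finite W] [Nontrivial W] (h : FpfAct A W) (x : A) (q : ℕ)
    [hq : Fact q.Prime] (hx : x ≠ 1) (hxq : x ^ q = 1) (hW : ∀ w : W, w ^ q = 1) : False := by
  obtain ⟨w, hw⟩ := exists_ne (1 : W)
  have ho : orderOf w = q := orderOf_eq_prime (hW w) hw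
  exact fpf_prime_not_dvd h x q hx hxq (ho ▸ orderOf_dvd_natCard w)

/-- A commutative group acting fixed-point-freely on a nontrivial finite commutative group is
cyclic. -/
theorem fpf_cyclic_of_comm [Finite A] [Finite W] [Nontrivial W] (h : FpfAct A W)
    (hcomm : ∀ a b : A, a * b = b * a) : IsCyclic A := by
  classical
  have := Fintype.ofFinite A
  have hprime : ∀ p : ℕ, p.Prime → (Finset.univ.filter (fun a : A => a ^ p = 1)).card ≤ p := by
    intro p hp
    by_contra hlt
    push Not at hlt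
    have : Fact p.Prime := ⟨hp⟩
    obtain ⟨a, ha, ha1⟩ := Finset.exists_mem_ne (hp.one_lt.trans hlt) (1 : A)
    have hap : a ^ p = 1 := (Finset.mem_filter.mp ha).2
    have hoa : orderOf a = p := orderOf_eq_prime hap ha1
    have hcard : Fintype.card (Subgroup.zpowers a) = p := by
      rw [← Nat.card_eq_fintype_card, Nat.card_zpowers, hoa]
    obtain ⟨b, hb, hbn⟩ : ∃ b ∈ Finset.univ.filter (fun a : A => a ^ p = 1),
        b ∉ Subgroup.zpowers a := by
      by_contra hall
      push Not at hall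
      have h1 : (Finset.univ.filter (fun a : A => a ^ p = 1)).card
          ≤ (Finset.univ.filter (fun c : A => c ∈ Subgroup.zpowers a)).card :=
        Finset.card_le_card (fun b hb => Finset.mem_filter.mpr ⟨Finset.mem_univ _, hall b hb⟩)
      have h2 : (Finset.univ.filter (fun c : A => c ∈ Subgroup.zpowers a)).card = p := by
        rw [← Fintype.card_subtype, ← Nat.card_eq_fintype_card]
        exact (Nat.card_zpowers a).trans hoa
      omega
    have hbp : b ^ p = 1 := (Finset.mem_filter.mp hb).2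
    have hQp : ∀ q : Subgroup.zpowers a, (q : A) ^ p = 1 := by
      intro q
      obtain ⟨k, hk⟩ := Subgroup.mem_zpowers_iff.mp q.2
      rw [← hk, ← zpow_natCast, ← zpow_mul, mul_comm, zpow_mul, zpow_natCast, hap, one_zpow]
    have hW : ∀ w : W, w ^ p = 1 := by
      intro w
      have := fpf_pow_card h (Q := Subgroup.zpowers a) p hp.pos (fun q => (q : A) * b)
        (fun q hq => hbn (by
          have : b = (q : A)⁻¹ := by
            rw [eq_inv_iff_mul_eq_one, hcomm]; exact hq
          rw [this]; exact Subgroup.inv_mem _ q.2))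
        (fun q => by
          rw [(show Commute (q : A) b from hcomm _ _).mul_pow, hQp q, hbp, one_mul])
        (fun j q => (q : A) ^ j) (fun j => b ^ j)
        (fun j _ _ c d => by
          rw [Subgroup.coe_mul, (show Commute (c : A) (d : A) from hcomm _ _).mul_pow])
        (fun j hj hjp => ⟨⟨a, Subgroup.mem_zpowers a⟩,
          pow_ne_one_of_lt_orderOf (by omega) (by rw [hoa]; exact hjp)⟩)
        (fun j _ _ q => (show Commute (q : A) b from hcomm _ _).mul_pow j) w
      rwa [hcard] at this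
    exact fpf_prime_exponent h a p ha1 hap hW
  apply isCyclic_of_card_pow_eq_one_le
  intro n
  induction n using Nat.strong_induction_on with
  | _ n ih =>
    intro hn
    rcases Nat.lt_or_ge n 2 with h2 | h2
    · have h1 : n = 1 := by omega
      subst h1
      have : (Finset.univ.filter (fun a : A => a ^ 1 = 1)) = {1} := by
        ext a
        simp
      rw [this, Finset.card_singleton]
    · obtain ⟨p, hp, hpn⟩ := Nat.exists_prime_and_dvd (by omega : n ≠ 1)
      obtain ⟨m, rfl⟩ := hpn
      have hm : 0 < m := Nat.pos_of_mul_pos_left hn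
      have hmlt : m < p * m := by
        have := hp.two_le
        nlinarith
      have ihm := ih m hmlt hm
      have hmaps : ∀ a ∈ Finset.univ.filter (fun a : A => a ^ (p * m) = 1),
          a ^ p ∈ Finset.univ.filter (fun a : A => a ^ m = 1) := by
        intro a ha
        rw [Finset.mem_filter] at ha ⊢
        exact ⟨Finset.mem_univ _, by rw [← pow_mul]; exact ha.2⟩
      have hfib : ∀ b ∈ Finset.univ.filter (fun a : A => a ^ m = 1),
          (Finset.filter (fun a => a ^ p = b)
            (Finset.univ.filter (fun a : A => a ^ (p * m) = 1))).card ≤ p := by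
        intro b _
        rcases (Finset.filter (fun a => a ^ p = b)
            (Finset.univ.filter (fun a : A => a ^ (p * m) = 1))).eq_empty_or_nonempty with he | hne
        · rw [he]; simp
        · obtain ⟨a₀, ha₀⟩ := hne
          have ha₀p : a₀ ^ p = b := (Finset.mem_filter.mp ha₀).2
          refine le_trans (Finset.card_le_card_of_injOn (fun x => x * a₀⁻¹) ?_ ?_) (hprime p hp)
          · intro x hx
            have hxp : x ^ p = b := (Finset.mem_filter.mp hx).2
            show x * a₀⁻¹ ∈ Finset.univ.filter (fun a : A => a ^ p = 1)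
            rw [Finset.mem_filter]
            refine ⟨Finset.mem_univ _, ?_⟩
            rw [(show Commute x a₀⁻¹ from hcomm _ _).mul_pow, inv_pow, hxp, ha₀p, mul_inv_cancel]
          · intro x _ y _ hxy
            exact mul_right_cancel hxy
      calc (Finset.univ.filter (fun a : A => a ^ (p * m) = 1)).card
          ≤ p * (Finset.univ.filter (fun a : A => a ^ m = 1)).card :=
            Finset.card_le_mul_card_image_of_maps_to hmaps p hfib
        _ ≤ p * m := Nat.mul_le_mul_left _ ihm

theorem conj_pow_mem_of_normalizes (Q : Subgroup A) (y : A) (hyQ : ∀ c ∈ Q, y * c * y⁻¹ ∈ Q) :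
    ∀ (j : ℕ), ∀ c ∈ Q, y ^ j * c * (y ^ j)⁻¹ ∈ Q := by
  intro j
  induction j with
  | zero => intro c hc; simpa using hc
  | succ j ih =>
    intro c hc
    have h1 := hyQ _ (ih c hc)
    have e : y ^ (j + 1) * c * (y ^ (j + 1))⁻¹ = y * (y ^ j * c * (y ^ j)⁻¹) * y⁻¹ := by
      rw [pow_succ']; group
    rw [e]; exact h1

/-- If an element `y` of prime order normalizes but does not centralize the abelian subgroup `Q`,
then `W` has exponent dividing the order of `Q`. -/
theorem fpf_normalizer_pow_card (h : FpfAct A W) (Q : Subgroup A) [Fintype Q]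
    (hQ : ∀ c ∈ Q, ∀ d ∈ Q, c * d = d * c) (y : A) (r : ℕ) (hr : r.Prime)
    (hyr : y ^ r = 1) (hyQ : ∀ c ∈ Q, y * c * y⁻¹ ∈ Q) (hnc : ∃ c ∈ Q, y * c ≠ c * y) (w : W) :
    w ^ Fintype.card Q = 1 := by
  have : Fact r.Prime := ⟨hr⟩
  have hy : y ≠ 1 := by
    rintro rfl
    obtain ⟨c, _, hc⟩ := hnc
    exact hc (by simp)
  have hoy : orderOf y = r := orderOf_eq_prime hyr hy
  have hyj := conj_pow_mem_of_normalizes Q y hyQ
  refine fpf_pow_card h (Q := Q) r hr.pos (fun q => (q : A) * y * (q : A)⁻¹) ?_ ?_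
    (fun j q => (q : A) * (y ^ j * (q : A)⁻¹ * (y ^ j)⁻¹)) (fun j => y ^ j) ?_ ?_ ?_ w
  · intro q hq
    apply hy
    have e : y = (q : A)⁻¹ * ((q : A) * y * (q : A)⁻¹) * (q : A) := by group
    rw [e, hq]; group
  · intro q
    rw [conj_pow, hyr]; group
  · intro j _ _ c d
    have hc' : y ^ j * (c : A)⁻¹ * (y ^ j)⁻¹ ∈ Q := hyj j _ (Q.inv_mem c.2)
    have hd' : y ^ j * (d : A)⁻¹ * (y ^ j)⁻¹ ∈ Q := hyj j _ (Q.inv_mem d.2)
    have e1 : y ^ j * ((c : A) * (d : A))⁻¹ * (y ^ j)⁻¹
        = (y ^ j * (d : A)⁻¹ * (y ^ j)⁻¹) * (y ^ j * (c : A)⁻¹ * (y ^ j)⁻¹) := by group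
    have e2 := hQ _ hd' _ hc'
    have e3 := hQ _ d.2 _ hc'
    show ((c * d : Q) : A) * (y ^ j * ((c * d : Q) : A)⁻¹ * (y ^ j)⁻¹) = _
    rw [Subgroup.coe_mul, e1, e2]
    calc (c : A) * (d : A) * (y ^ j * (c : A)⁻¹ * (y ^ j)⁻¹ * (y ^ j * (d : A)⁻¹ * (y ^ j)⁻¹))
        = (c : A) * ((d : A) * (y ^ j * (c : A)⁻¹ * (y ^ j)⁻¹)) * (y ^ j * (d : A)⁻¹ * (y ^ j)⁻¹) := by
          group
      _ = (c : A) * ((y ^ j * (c : A)⁻¹ * (y ^ j)⁻¹) * (d : A)) * (y ^ j * (d : A)⁻¹ * (y ^ j)⁻¹) := by
          rw [e3]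
      _ = _ := by group
  · intro j hj hjr
    obtain ⟨c, hc, hcy⟩ := hnc
    refine ⟨⟨c, hc⟩, ?_⟩
    intro h1
    apply hcy
    have h1' : c * (y ^ j * c⁻¹ * (y ^ j)⁻¹) = 1 := h1
    have h2 : y ^ j * c⁻¹ * (y ^ j)⁻¹ = c⁻¹ := by
      rw [← mul_right_inj c, h1', mul_inv_cancel]
    have hcj : y ^ j * c = c * y ^ j := by
      calc y ^ j * c = (y ^ j * c⁻¹ * (y ^ j)⁻¹)⁻¹ * y ^ j := by group
        _ = c * y ^ j := by rw [h2, inv_inv]
    have hcop : j.Coprime (orderOf y) := by
      rw [hoy]
      exact (Nat.coprime_of_lt_prime (by omega) hjr hr).symm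
    obtain ⟨m, hm⟩ := exists_pow_eq_self_of_coprime hcop
    have hcomm : Commute (y ^ j) c := hcj
    have := (hcomm.pow_left m).eq
    rwa [hm] at this
  · intro j _ _ q
    show ((q : A) * y * (q : A)⁻¹) ^ j = (q : A) * (y ^ j * (q : A)⁻¹ * (y ^ j)⁻¹) * y ^ j
    rw [conj_pow]; group

/-- An element of prime order normalizing an abelian subgroup centralizes it. -/
theorem fpf_centralizes_of_normalizes [Finite A] [Finite W] [Nontrivial W] (h : FpfAct A W)
    (Q : Subgroup A) (hQ : ∀ c ∈ Q, ∀ d ∈ Q, c * d = d * c) (y : A) (r : ℕ) (hr : r.Prime)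
    (hyr : y ^ r = 1) (hyQ : ∀ c ∈ Q, y * c * y⁻¹ ∈ Q) : ∀ c ∈ Q, y * c = c * y := by
  classical
  by_contra hnc
  push Not at hnc
  have := Fintype.ofFinite Q
  have hW : ∀ w : W, w ^ Nat.card Q = 1 := by
    intro w
    rw [Nat.card_eq_fintype_card]
    exact fpf_normalizer_pow_card h Q hQ y r hr hyr hyQ hnc w
  obtain ⟨w, hw⟩ := exists_ne (1 : W)
  have how : orderOf w ≠ 1 := fun h1 => hw (orderOf_eq_one_iff.mp h1)
  obtain ⟨q, hq, hqw⟩ := Nat.exists_prime_and_dvd how
  have : Fact q.Prime := ⟨hq⟩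
  have hqW : q ∣ Nat.card W := hqw.trans (orderOf_dvd_natCard w)
  have hqQ : q ∣ Nat.card Q := hqw.trans (orderOf_dvd_of_pow_eq_one (hW w))
  obtain ⟨x, hx⟩ := exists_prime_orderOf_dvd_card' q hqQ
  have hx1 : (x : A) ≠ 1 := by
    intro h1
    have : x = 1 := Subtype.ext h1
    rw [this, orderOf_one] at hx
    exact hq.ne_one hx.symm
  have hxq : (x : A) ^ q = 1 := by
    have := pow_orderOf_eq_one x
    rw [hx] at this
    exact congrArg Subtype.val this
  exact fpf_prime_not_dvd h (x : A) q hx1 hxq hqW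

/-- A group of order `p * q` acting fixed-point-freely on a nontrivial finite commutative group is
cyclic. -/
theorem fpf_cyclic_of_card_pq [Finite A] [Finite W] [Nontrivial W] (h : FpfAct A W) {p q : ℕ}
    (hp : p.Prime) (hq : q.Prime) (hcard : Nat.card A = p * q) : IsCyclic A := by
  classical
  wlog hle : p ≤ q generalizing p q
  · exact this hq hp (by rw [hcard, mul_comm]) (by omega)
  have : Fact p.Prime := ⟨hp⟩
  have : Fact q.Prime := ⟨hq⟩
  rcases hle.eq_or_lt with rfl | hlt
  · have hc := IsPGroup.isMulCommutative_of_card_eq_prime_sq (p := p) (G := A)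
      (by rw [hcard, sq])
    exact fpf_cyclic_of_comm h (fun a b => mul_comm' a b)
  · obtain ⟨K, hK⟩ := Sylow.exists_subgroup_card_pow_prime q (n := 1)
      (by rw [hcard, pow_one]; exact dvd_mul_left q p)
    rw [pow_one] at hK
    have hidx : K.index = p := by
      have h1 := K.card_mul_index
      rw [hK, hcard, mul_comm p q] at h1
      exact Nat.eq_of_mul_eq_mul_left hq.pos h1
    have hmf : (Nat.card A).minFac = p := by
      rw [hcard]
      have h2 : (p * q).minFac.Prime := Nat.minFac_prime (by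
        have := hp.two_le; have := hq.two_le; nlinarith)
      have h1 := Nat.minFac_dvd (p * q)
      rcases (h2.dvd_mul).mp h1 with h3 | h3
      · exact (Nat.prime_dvd_prime_iff_eq h2 hp).mp h3
      · have h4 := (Nat.prime_dvd_prime_iff_eq h2 hq).mp h3
        have h5 := Nat.minFac_le_of_dvd hp.two_le (dvd_mul_right p q)
        omega
    have hKn : K.Normal := Subgroup.normal_of_index_eq_minFac_card (hidx.trans hmf.symm)
    have hKc : IsCyclic K := isCyclic_of_prime_card hK
    have hKcomm : ∀ c ∈ K, ∀ d ∈ K, c * d = d * c := by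
      intro c hc d hd
      let _ := IsCyclic.commGroup (α := K)
      exact congrArg Subtype.val (mul_comm (⟨c, hc⟩ : K) ⟨d, hd⟩)
    obtain ⟨y, hy⟩ := exists_prime_orderOf_dvd_card' (G := A) p (by rw [hcard]; exact dvd_mul_right p q)
    obtain ⟨x, hx⟩ := exists_prime_orderOf_dvd_card' (G := K) q (by rw [hK])
    have hx' : orderOf (x : A) = q := by rw [Subgroup.orderOf_coe, hx]
    have hyr : y ^ p = 1 := by rw [← hy]; exact pow_orderOf_eq_one y
    by_cases hc : ∀ c ∈ K, y * c = c * y
    · have hcomm : Commute (x : A) y := (hc x x.2).symm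
      have ho := hcomm.orderOf_mul_eq_mul_orderOf_of_coprime (by
        rw [hx', hy]; exact (Nat.coprime_primes hq hp).mpr (by omega))
      apply isCyclic_of_orderOf_eq_card ((x : A) * y)
      rw [ho, hx', hy, hcard, mul_comm]
    · exfalso
      push Not at hc
      have := Fintype.ofFinite K
      have hW : ∀ w : W, w ^ q = 1 := by
        intro w
        have := fpf_normalizer_pow_card h K hKcomm y p hp hyr
          (fun c hc => hKn.conj_mem c hc y) hc w
        rwa [← Nat.card_eq_fintype_card, hK] at this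
      have hx1 : (x : A) ≠ 1 := by
        intro h1
        rw [h1, orderOf_one] at hx'
        exact hq.ne_one hx'.symm
      have hxq : (x : A) ^ q = 1 := by rw [← hx']; exact pow_orderOf_eq_one _
      exact fpf_prime_exponent h (x : A) q hx1 hxq hW

end Fpf

end Cfsg.Agent.Lib.Lead
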