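import Mathlib
import Cfsg.Agent.Lib.Lead.UniqueSubgroup
import Cfsg.Agent.Lib.Helper1.CoprimeSylow
import Cfsg.Agent.Lib.Helper1.Coprime
import Cfsg.Agent.Lib.Helper17.OmegaUnique
import Cfsg.Agent.S0041

/-!
Subgroups acting fixed-point-freely (by conjugation) on a nontrivial normal subgroup `K`:
structure of their `p`-subgroups.
-/

namespace Cfsg.Agent.Lib.Lead

section FrobComplement

variable {G : Type*} [Group G] [Finite G]

/-- Coprime action: an `A`-invariant nontrivial abelian subgroup of `K`. -/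
theorem exists_invariant_abelian (A K : Subgroup G) [K.Normal] (hK : K ≠ ⊥)
    (hcop : (Nat.card A).Coprime (Nat.card K))
    (hsolv : Group.IsSolvable A ∨ Group.IsSolvable K) :
    ∃ V : Subgroup G, V ≤ K ∧ V ≠ ⊥ ∧ A ≤ Subgroup.normalizer (V : Set G) ∧
      ∀ x ∈ V, ∀ y ∈ V, x * y = y * x := by
  have hcard : Nat.card K ≠ 1 := fun h => hK (Subgroup.card_eq_one.mp h)
  obtain ⟨q, hq, hqK⟩ := Nat.exists_prime_and_dvd hcard
  have : Fact q.Prime := ⟨hq⟩
  have hAK : A ≤ Subgroup.normalizer (K : Set G) := by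
    rw [Subgroup.normalizer_eq_top]
    exact le_top
  obtain ⟨R, hR⟩ := Cfsg.Agent.Lib.Helper1.exists_invariant_sylow A K hAK hcop hsolv q
  obtain ⟨R', hR'⟩ : ∃ R' : Subgroup G, R' = (R : Subgroup K).map K.subtype := ⟨_, rfl⟩
  rw [← hR'] at hR
  have hRne : (R : Subgroup K) ≠ ⊥ := R.ne_bot_of_dvd_card hqK
  have hR'q : IsPGroup q R' := hR' ▸ R.isPGroup'.map _
  have hR'K : R' ≤ K := hR' ▸ Subgroup.map_subtype_le _
  have hR'nt : Nontrivial R' := by
    rw [Subgroup.nontrivial_iff_ne_bot]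
    intro h
    apply hRne
    rw [hR'] at h
    exact (Subgroup.map_eq_bot_iff_of_injective _ K.subtype_injective).mp h
  refine ⟨(Subgroup.center R').map R'.subtype, ?_, ?_, ?_, ?_⟩
  · exact (Subgroup.map_subtype_le _).trans hR'K
  · have h1 := hR'q.center_nontrivial
    intro h
    rw [Subgroup.map_eq_bot_iff_of_injective _ R'.subtype_injective] at h
    exact (Subgroup.nontrivial_iff_ne_bot _).mp h1 h
  · exact hR.trans
      (Cfsg.Agent.Lib.Helper1.normalizer_le_normalizer_map_of_characteristic (Subgroup.center R'))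
  · rintro x ⟨x', hx', rfl⟩ y ⟨y', hy', rfl⟩
    have h1 := Subgroup.mem_center_iff.mp hx' y'
    exact congrArg Subtype.val h1.symm

/-- A nontrivial `p`-subgroup acting fixed-point-freely on `K` has order prime to `|K|`. -/
theorem not_dvd_card_of_fpf (K : Subgroup G) [K.Normal] (p : ℕ) [Fact p.Prime] (P : Subgroup G)
    (hP : IsPGroup p P) (hP1 : P ≠ ⊥)
    (hfpf : ∀ h ∈ P, h ≠ 1 → K ⊓ Subgroup.centralizer {h} = ⊥) : ¬ p ∣ Nat.card K := by
  intro hdvd
  let _ : MulAction P K := MulAction.compHom K ((MulAut.conjNormal (H := K)).comp P.subtype)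
  have hsmul : ∀ (g : P) (k : K), ((g • k : K) : G) = g * k * (g : G)⁻¹ := fun g k => rfl
  have key := hP.card_modEq_card_fixedPoints K
  obtain ⟨h, hh1⟩ := (Subgroup.ne_bot_iff_exists_ne_one).mp hP1
  have hfix1 : ∀ a : K, h • a = a → a = 1 := by
    intro a ha
    have h1 : (a : G) ∈ K ⊓ Subgroup.centralizer {(h : G)} := by
      refine ⟨a.2, ?_⟩
      change (a : G) ∈ Subgroup.centralizer {(h : G)}
      rw [Subgroup.mem_centralizer_iff]
      intro b hb
      rw [Set.mem_singleton_iff] at hb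
      subst hb
      have h2 := congrArg Subtype.val ha
      rw [hsmul] at h2
      calc (h : G) * (a : G) = (h : G) * a * (h : G)⁻¹ * h := by group
        _ = (a : G) * h := by rw [h2]
    rw [hfpf h h.2 (fun h1 => hh1 (Subtype.ext h1))] at h1
    exact Subtype.ext (Subgroup.mem_bot.mp h1)
  have hfix : Nat.card (MulAction.fixedPoints P K) = 1 := by
    rw [Nat.card_eq_one_iff_unique]
    refine ⟨⟨?_⟩, ⟨⟨1, fun g => ?_⟩⟩⟩
    · rintro ⟨a, ha⟩ ⟨b, hb⟩
      apply Subtype.ext
      show a = b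
      rw [hfix1 a (ha h), hfix1 b (hb h)]
    · apply Subtype.ext
      rw [hsmul]
      simp
  rw [hfix] at key
  have h0 : Nat.card K ≡ 0 [MOD p] := (Nat.modEq_zero_iff_dvd).mpr hdvd
  have h1 : (0 : ℕ) ≡ 1 [MOD p] := h0.symm.trans key
  have h2 : p ∣ 1 := (Nat.modEq_zero_iff_dvd).mp h1.symm
  exact (Fact.out : p.Prime).ne_one (Nat.dvd_one.mp h2)

/-- A `p`-subgroup acting fixed-point-freely on a nontrivial normal subgroup has at most one
subgroup of order `p`. -/
theorem fpf_pgroup_uniq (K : Subgroup G) [K.Normal] (hK : K ≠ ⊥) (p : ℕ) [Fact p.Prime]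
    (P : Subgroup G) (hP : IsPGroup p P)
    (hfpf : ∀ h ∈ P, h ≠ 1 → K ⊓ Subgroup.centralizer {h} = ⊥) : UniqP p P := by
  by_cases hP1 : P = ⊥
  · intro x y hx hy hx1
    exfalso
    apply hx1
    apply Subtype.ext
    have h1 : (x : G) ∈ (⊥ : Subgroup G) := hP1 ▸ x.2
    exact Subgroup.mem_bot.mp h1
  have hnd := not_dvd_card_of_fpf K p P hP hP1 hfpf
  have hcop : (Nat.card P).Coprime (Nat.card K) := by
    obtain ⟨n, hn⟩ := IsPGroup.iff_card.mp hP
    rw [hn]
    exact Nat.Coprime.pow_left n ((Nat.Prime.coprime_iff_not_dvd Fact.out).mpr hnd)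
  have hsolv : Group.IsSolvable P := by
    have := hP.isNilpotent
    infer_instance
  obtain ⟨V, hVK, hV, hPV, hVc⟩ := exists_invariant_abelian P K hK hcop (Or.inl hsolv)
  have : IsMulCommutative V := ⟨⟨fun x y => Subtype.ext (hVc x x.2 y y.2)⟩⟩
  have hcyc : ∀ B : Subgroup G, B ≤ P → (∀ x ∈ B, ∀ y ∈ B, x * y = y * x) → IsCyclic B := by
    intro B hBP hB
    have hBc : IsMulCommutative B := ⟨⟨fun x y => Subtype.ext (hB x x.2 y y.2)⟩⟩
    exact Cfsg.Agent.S0041.result B V hV (hBP.trans hPV)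
      (fun b hb hb1 => le_bot_iff.mp (by
        rw [← hfpf b (hBP hb) hb1]
        exact inf_le_inf_right _ hVK)) (Or.inl hBc)
  have hPnt : Nontrivial P := (Subgroup.nontrivial_iff_ne_bot P).mpr hP1
  have hZ : p ∣ Nat.card (Subgroup.center P) := by
    have h1 := hP.center_nontrivial
    rcases (hP.to_subgroup (Subgroup.center P)).card_eq_or_dvd with h | h
    · exact absurd (Nat.card_eq_one_iff_unique.mp h).1 (not_subsingleton _)
    · exact h
  obtain ⟨z', hz'⟩ := exists_prime_orderOf_dvd_card' p hZ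
  obtain ⟨z, hzP, hzo, hzc⟩ : ∃ z ∈ P, orderOf z = p ∧ ∀ g ∈ P, g * z = z * g := by
    refine ⟨((z' : P) : G), (z' : P).2, ?_, ?_⟩
    · rw [Subgroup.orderOf_coe, Subgroup.orderOf_coe]
      exact hz'
    · intro g hg
      have h1 := Subgroup.mem_center_iff.mp z'.2 ⟨g, hg⟩
      exact congrArg Subtype.val h1
  have hmem : ∀ w ∈ P, w ^ p = 1 → w ∈ Subgroup.zpowers z := by
    intro w hw hwp
    have hBP : Subgroup.closure ({z, w} : Set G) ≤ P := by
      rw [Subgroup.closure_le]
      rintro _ (rfl | rfl)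
      · exact hzP
      · exact hw
    have hk : ∀ x ∈ ({z, w} : Set G), ∀ y ∈ ({z, w} : Set G), x * y = y * x := by
      rintro x (rfl | rfl) y (rfl | rfl)
      · rfl
      · exact (hzc _ hw).symm
      · exact hzc _ hw
      · rfl
    have hBc : ∀ x ∈ Subgroup.closure ({z, w} : Set G),
        ∀ y ∈ Subgroup.closure ({z, w} : Set G), x * y = y * x := by
      intro x hx y hy
      have hcomm := Subgroup.isMulCommutative_closure hk
      exact congrArg Subtype.val
        (mul_comm' (⟨x, hx⟩ : Subgroup.closure ({z, w} : Set G)) ⟨y, hy⟩)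
    have hBcyc := hcyc _ hBP hBc
    have hzB : z ∈ Subgroup.closure ({z, w} : Set G) := Subgroup.subset_closure (by simp)
    have hwB : w ∈ Subgroup.closure ({z, w} : Set G) := Subgroup.subset_closure (by simp)
    have h1 := Cfsg.Agent.Lib.Helper17.mem_zpowers_of_isCyclic p (Fact.out : p.Prime).pos
      (⟨z, hzB⟩ : Subgroup.closure ({z, w} : Set G)) (by rw [Subgroup.orderOf_mk]; exact hzo)
      ⟨w, hwB⟩ (Subtype.ext hwp)
    obtain ⟨i, hi⟩ := Subgroup.mem_zpowers_iff.mp h1
    exact Subgroup.mem_zpowers_iff.mpr ⟨i, by simpa using congrArg Subtype.val hi⟩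
  intro x y hx hy hx1
  have hxz := hmem x x.2 (congrArg Subtype.val hx)
  have hyz := hmem y y.2 (congrArg Subtype.val hy)
  have hox : orderOf (x : G) = p :=
    orderOf_eq_prime (congrArg Subtype.val hx) (fun h => hx1 (Subtype.ext h))
  have heq : Subgroup.zpowers (x : G) = Subgroup.zpowers z := by
    apply Subgroup.eq_of_le_of_card_ge (Subgroup.zpowers_le.mpr hxz)
    rw [Nat.card_zpowers, Nat.card_zpowers, hox, hzo]
  rw [← heq] at hyz
  obtain ⟨i, hi⟩ := Subgroup.mem_zpowers_iff.mp hyz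
  exact Subgroup.mem_zpowers_iff.mpr ⟨i, Subtype.ext (by simpa using hi)⟩

end FrobComplement

end Cfsg.Agent.Lib.Lead
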