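import Mathlib
import Cfsg.Agent.Lib.Lead.Frobenius

set_option autoImplicit false

/-!
More API for Frobenius groups: the Frobenius kernel as a subgroup `frobKer H hH`, its basic
properties, fixed-point-freeness and coprimality of kernel and complement.
-/

namespace Cfsg.Agent.Lib.Lead

open Cfsg.Agent.Lib.Helper21
open scoped Pointwise

universe u

variable {G : Type u} [Group G] [Finite G]

/-- The Frobenius kernel as a subgroup. -/
noncomputable def frobKer (H : Subgroup G) (hH : Cfsg.IsFrobeniusComplement H) : Subgroup G :=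
  Classical.choose (frobenius_theorem H hH)

theorem coe_frobKer (H : Subgroup G) (hH : Cfsg.IsFrobeniusComplement H) :
    (frobKer H hH : Set G) = Cfsg.frobeniusKernel H :=
  (Classical.choose_spec (frobenius_theorem H hH)).1

theorem frobKer_normal (H : Subgroup G) (hH : Cfsg.IsFrobeniusComplement H) :
    (frobKer H hH).Normal :=
  (Classical.choose_spec (frobenius_theorem H hH)).2.1

theorem frobKer_isComplement' (H : Subgroup G) (hH : Cfsg.IsFrobeniusComplement H) :
    Subgroup.IsComplement' (frobKer H hH) H :=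
  (Classical.choose_spec (frobenius_theorem H hH)).2.2

theorem mem_frobKer_iff (H : Subgroup G) (hH : Cfsg.IsFrobeniusComplement H) (x : G) :
    x ∈ frobKer H hH ↔ x = 1 ∨ ∀ g : G, x ∉ MulAut.conj g • H := by
  rw [← SetLike.mem_coe, coe_frobKer]
  rfl

theorem frobKer_inf (H : Subgroup G) (hH : Cfsg.IsFrobeniusComplement H) :
    frobKer H hH ⊓ H = ⊥ :=
  disjoint_iff.mp (frobKer_isComplement' H hH).disjoint

theorem frobKer_sup (H : Subgroup G) (hH : Cfsg.IsFrobeniusComplement H) :
    frobKer H hH ⊔ H = ⊤ :=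
  (frobKer_isComplement' H hH).sup_eq_top

theorem card_frobKer (H : Subgroup G) (hH : Cfsg.IsFrobeniusComplement H) :
    Nat.card (frobKer H hH) = H.index := by
  rw [← frob_kernel_ncard hH, ← coe_frobKer H hH]
  exact Nat.card_coe_set_eq _

theorem card_frobKer_mul_card (H : Subgroup G) (hH : Cfsg.IsFrobeniusComplement H) :
    Nat.card (frobKer H hH) * Nat.card H = Nat.card G := by
  rw [card_frobKer, mul_comm]
  exact H.card_mul_index

theorem frobKer_ne_bot (H : Subgroup G) (hH : Cfsg.IsFrobeniusComplement H) :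
    frobKer H hH ≠ ⊥ := by
  intro h
  have h1 := card_frobKer H hH
  rw [h, Subgroup.card_bot] at h1
  exact hH.2.1 (Subgroup.index_eq_one.mp h1.symm)

/-- No nonidentity element of the complement commutes with a nonidentity element of the kernel. -/
theorem frob_commute_eq_one (H : Subgroup G) (hH : Cfsg.IsFrobeniusComplement H) {h k : G}
    (hh : h ∈ H) (h1 : h ≠ 1) (hk : k ∈ frobKer H hH) (hc : h * k = k * h) : k = 1 := by
  have hkH : k ∈ H := by
    apply frob_conj_mem hH hh h1
    have e : k⁻¹ * h * k = h := by rw [mul_assoc, hc, ← mul_assoc, inv_mul_cancel, one_mul]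
    rw [e]
    exact hh
  have hmem : k ∈ frobKer H hH ⊓ H := ⟨hk, hkH⟩
  rw [frobKer_inf, Subgroup.mem_bot] at hmem
  exact hmem

/-- The orders of the Frobenius kernel and of the complement are coprime. -/
theorem frobKer_coprime (H : Subgroup G) (hH : Cfsg.IsFrobeniusComplement H) :
    (Nat.card (frobKer H hH)).Coprime (Nat.card H) := by
  apply Nat.coprime_of_dvd
  intro p hp hpN hpH
  haveI := Fact.mk hp
  haveI := frobKer_normal H hH
  obtain ⟨h, hh⟩ := exists_prime_orderOf_dvd_card' p hpH
  have hh1 : (h : G) ≠ 1 := by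
    intro e
    have : h = 1 := Subtype.ext e
    rw [this, orderOf_one] at hh
    exact hp.one_lt.ne hh
  let P : Subgroup G := Subgroup.zpowers (h : G)
  have hP : IsPGroup p P := by
    apply IsPGroup.of_card (n := 1)
    rw [Nat.card_zpowers, Subgroup.orderOf_coe, hh, pow_one]
  letI act : MulAction P (frobKer H hH) :=
    MulAction.compHom _ ((MulAut.conjNormal (H := frobKer H hH)).comp P.subtype)
  have hmod := hP.card_modEq_card_fixedPoints (frobKer H hH)
  have hfixed : ∀ a : frobKer H hH, a ∈ MulAction.fixedPoints P (frobKer H hH) → a = 1 := by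
    intro a ha
    have h2 := ha ⟨(h : G), Subgroup.mem_zpowers _⟩
    have h3 : (h : G) * (a : G) * (h : G)⁻¹ = a := by
      have h4 := congrArg Subtype.val h2
      rw [← MulAut.conjNormal_apply (H := frobKer H hH) (h : G) a]
      exact h4
    have hc : (h : G) * (a : G) = (a : G) * (h : G) := by
      have e : (h : G) * (a : G) = ((h : G) * (a : G) * (h : G)⁻¹) * (h : G) := by group
      rw [e, h3]
    exact Subtype.ext (frob_commute_eq_one H hH h.2 hh1 a.2 hc)
  have hfix : Nat.card (MulAction.fixedPoints P (frobKer H hH)) = 1 := by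
    rw [Nat.card_eq_one_iff_unique]
    refine ⟨⟨?_⟩, ⟨⟨1, ?_⟩⟩⟩
    · intro a b
      apply Subtype.ext
      rw [hfixed a.1 a.2, hfixed b.1 b.2]
    · intro g
      change (MulAut.conjNormal (H := frobKer H hH) (g : G)) 1 = 1
      exact map_one _
  rw [hfix] at hmod
  have h0 : Nat.card (frobKer H hH) % p = 0 := Nat.mod_eq_zero_of_dvd hpN
  have h1 : 1 % p = 1 := Nat.mod_eq_of_lt hp.one_lt
  have h5 : Nat.card (frobKer H hH) % p = 1 % p := hmod
  omega

/-- The centralizer of a nonidentity element of the kernel lies in the kernel. -/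
theorem frob_centralizer_le (H : Subgroup G) (hH : Cfsg.IsFrobeniusComplement H) {n : G}
    (hn : n ∈ frobKer H hH) (hn1 : n ≠ 1) :
    Subgroup.centralizer ({n} : Set G) ≤ frobKer H hH := by
  intro x hx
  have hxn : n * x = x * n := by
    have := (Subgroup.mem_centralizer_iff.mp hx) n (Set.mem_singleton n)
    exact this
  rw [mem_frobKer_iff]
  by_contra hcon
  push Not at hcon
  obtain ⟨hx1, g, hxg⟩ := hcon
  have hN := frobKer_normal H hH
  -- y = g⁻¹ x g is a nonidentity element of H commuting with m = g⁻¹ n g in the kernel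
  have hy : g⁻¹ * x * g ∈ H := (mem_conj_smul H g x).mp hxg
  have hy1 : g⁻¹ * x * g ≠ 1 := by
    intro h
    apply hx1
    have e : x = g * (g⁻¹ * x * g) * g⁻¹ := by group
    rw [e, h]; group
  have hm : g⁻¹ * n * g ∈ frobKer H hH := by
    have := hN.conj_mem n hn g⁻¹
    rwa [inv_inv] at this
  have hc : (g⁻¹ * x * g) * (g⁻¹ * n * g) = (g⁻¹ * n * g) * (g⁻¹ * x * g) := by
    have e1 : (g⁻¹ * x * g) * (g⁻¹ * n * g) = g⁻¹ * (x * n) * g := by group
    have e2 : (g⁻¹ * n * g) * (g⁻¹ * x * g) = g⁻¹ * (n * x) * g := by group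
    rw [e1, e2, hxn]
  have hm1 := frob_commute_eq_one H hH hy hy1 hm hc
  apply hn1
  have e : n = g * (g⁻¹ * n * g) * g⁻¹ := by group
  rw [e, hm1]; group

end Cfsg.Agent.Lib.Lead
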