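import Mathlib
import Cfsg.Agent.Lib.Lead.HomoChar
import Cfsg.Agent.Lib.Helper10.ZS5
import Cfsg.Agent.Lib.Helper2.CharDecomp
import Cfsg.Agent.Lib.Helper2.CharLinear
import Cfsg.Agent.Lib.Helper25.BlockDefect
import Cfsg.Agent.Lib.Helper25.Codegree
import Cfsg.Agent.Lib.Helper25.Defect0
import Cfsg.Agent.Lib.Helper25.ClassProd
import Cfsg.Agent.Lib.Helper19.Homocyc
import Cfsg.Agent.S0947
import Cfsg.Agent.S4722
import Cfsg.Agent.S0925

set_option autoImplicit false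

namespace Cfsg.Agent.Lib.Lead.HomoApp

open Cfsg Cfsg.Agent.Lib.Helper10 Cfsg.Agent.Lib.Helper2 Cfsg.Agent.Lib.Helper25

open scoped ComplexConjugate

universe u

variable {G : Type u} [Group G]

theorem finsum_block (B : Set (IrrCharacter G)) [Fintype {χ : IrrCharacter G // χ ∈ B}]
    (F : IrrCharacter G → ℂ) :
    ∑ᶠ χ ∈ B, F χ = ∑ i : {χ : IrrCharacter G // χ ∈ B}, F i.1 := by
  rw [← finsum_set_coe_eq_finsum_mem, finsum_eq_sum_of_fintype]

theorem finsum_block_real (B : Set (IrrCharacter G)) [Fintype {χ : IrrCharacter G // χ ∈ B}]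
    (F : IrrCharacter G → ℝ) :
    ∑ᶠ χ ∈ B, F χ = ∑ i : {χ : IrrCharacter G // χ ∈ B}, F i.1 := by
  rw [← finsum_set_coe_eq_finsum_mem, finsum_eq_sum_of_fintype]

/-- the `2`-part of the order of a subgroup containing a Sylow `2`-subgroup -/
theorem two_part_of_le [Finite G] (P : Sylow 2 G) (C : Subgroup G) (h : (P : Subgroup G) ≤ C) :
    2 ^ (Nat.card ↥C).factorization 2 = Nat.card ↥(P : Subgroup G) := by
  have : Fact (Nat.Prime 2) := ⟨Nat.prime_two⟩
  have h1 : Nat.card ↥(P : Subgroup G) ∣ Nat.card ↥C := Subgroup.card_dvd_of_le h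
  have h2 : Nat.card ↥C ∣ Nat.card G := Subgroup.card_subgroup_dvd_card C
  have hC0 : Nat.card ↥C ≠ 0 := Nat.card_pos.ne'
  have hG0 : Nat.card G ≠ 0 := Nat.card_pos.ne'
  rw [P.card_eq_multiplicity] at h1 ⊢
  have h3 : (Nat.card G).factorization 2 ≤ (Nat.card ↥C).factorization 2 :=
    (Nat.prime_two.pow_dvd_iff_le_factorization hC0).mp h1
  have h4 : (Nat.card ↥C).factorization 2 ≤ (Nat.card G).factorization 2 :=
    (Nat.factorization_le_iff_dvd hC0 hG0).mpr h2 2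
  rw [le_antisymm h4 h3]

theorem exists_char_aux [Finite G] (P : Sylow 2 G) {A : Type*} [AddCommGroup A] [Fintype A]
    [DecidableEq A]
    (f : A → G) (hfadd : ∀ x y, f (x + y) = f x * f y)
    (hfinj : Function.Injective f) (hfP : ∀ u : G, u ∈ P ↔ ∃ y, f y = u)
    (hn16 : 16 ∣ Fintype.card A) (t : A) (ht : t ≠ 0) (ht2 : t + t = 0)
    (hy2 : ∃ y : A, y + y ≠ 0) (a : G)
    (haN : ∀ u ∈ P, a * u * a⁻¹ ∈ P)
    (ha1 : ∀ u ∈ P, u ≠ 1 → a * u * a⁻¹ ≠ u)
    (ha3 : ∀ u ∈ P, a ^ 3 * u * (a ^ 3)⁻¹ = u)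
    (hfus : ∀ u ∈ P, ∀ g : G, g * u * g⁻¹ ∈ P →
        g * u * g⁻¹ = u ∨ g * u * g⁻¹ = a * u * a⁻¹ ∨ g * u * g⁻¹ = a ^ 2 * u * (a ^ 2)⁻¹)
    (hidx : ∀ u ∈ P, u ≠ 1 → ∃ k : ℕ,
        (Cfsg.pPrimeCore 2 ↥(Subgroup.centralizer ({u} : Set G))).index = 2 ^ k) :
    ∃ χ : IrrCharacter G, χ ≠ trivIrr G ∧ ∀ x ∈ P, (χ : G → ℂ) x = 1 := by
  classical
  have : Fact (Nat.Prime 2) := ⟨Nat.prime_two⟩
  have : Fintype G := Fintype.ofFinite G
  obtain ⟨M, hM⟩ := exists_isPModular 2 Nat.prime_two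
  have : M.IsPrime := hM.2.1.isPrime
  haveI : Fintype {χ : IrrCharacter G // χ ∈ principalBlock M G} := Fintype.ofFinite _
  haveI : Fintype ↥(P : Subgroup G) := Fintype.ofFinite _
  have hf0 : f 0 = 1 := by
    have h := hfadd 0 0
    rw [add_zero] at h
    exact mul_eq_left.mp h.symm
  have hfneg : ∀ x, f (-x) = (f x)⁻¹ := by
    intro x
    have h := hfadd x (-x)
    rw [add_neg_cancel, hf0] at h
    exact eq_inv_of_mul_eq_one_right h.symm
  have hfmem : ∀ y, f y ∈ P := fun y => (hfP _).mpr ⟨y, rfl⟩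
  have hf1 : ∀ y, f y = 1 ↔ y = 0 :=
    fun y => ⟨fun h => hfinj (h.trans hf0.symm), fun h => by rw [h, hf0]⟩
  have hex : ∀ y : A, ∃ y' : A, f y' = a * f y * a⁻¹ := fun y => (hfP _).mp (haN _ (hfmem y))
  choose alf half using hex
  have haladd : ∀ x y, alf (x + y) = alf x + alf y := by
    intro x y
    apply hfinj
    rw [half, hfadd, hfadd, half, half]
    group
  have halinj : Function.Injective alf := by
    intro x y h
    apply hfinj
    have h1 : a * f x * a⁻¹ = a * f y * a⁻¹ := by rw [← half, ← half, h]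
    exact mul_left_cancel (mul_right_cancel h1)
  obtain ⟨al, hal⟩ : ∃ al : A ≃+ A, ∀ y, al y = alf y :=
    ⟨AddEquiv.ofBijective (AddMonoidHom.mk' alf haladd)
      ⟨halinj, Finite.surjective_of_injective halinj⟩, fun y => rfl⟩
  have hfal : ∀ y, f (al y) = a * f y * a⁻¹ := fun y => by rw [hal, half]
  obtain ⟨X, hX⟩ : ∃ X : {χ : IrrCharacter G // χ ∈ principalBlock M G} → A → ℂ,
      ∀ i y, X i y = (i.1 : G → ℂ) (f y) := ⟨fun i y => (i.1 : G → ℂ) (f y), fun _ _ => rfl⟩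
  have hal1 : ∀ y : A, y ≠ 0 → al y ≠ y := by
    intro y hy h
    have h1 := ha1 (f y) (hfmem y) (fun h0 => hy ((hf1 y).mp h0))
    exact h1 (by rw [← hfal, h])
  have hal3 : ∀ y : A, al (al (al y)) = y := by
    intro y
    apply hfinj
    rw [hfal, hfal, hfal]
    calc a * (a * (a * f y * a⁻¹) * a⁻¹) * a⁻¹ = a ^ 3 * f y * (a ^ 3)⁻¹ := by
          simp only [pow_succ, pow_zero, one_mul, mul_inv_rev, mul_assoc]
      _ = f y := ha3 _ (hfmem y)
  have hXal : ∀ i y, X i (al y) = X i y := by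
    intro i y
    rw [hX, hX, hfal]
    exact ZS.irr_conj' i.1.2 _ _
  have hfusA : ∀ y y' : A, IsConj (f y) (f y') → y' = y ∨ y' = al y ∨ y' = al (al y) := by
    intro y y' hc
    obtain ⟨c, hc⟩ := isConj_iff.mp hc
    have h1 := hfus (f y) (hfmem y) c (by rw [hc]; exact hfmem y')
    rw [hc] at h1
    rcases h1 with h | h | h
    · exact Or.inl (hfinj h)
    · exact Or.inr (Or.inl (hfinj (by rw [h, hfal])))
    · refine Or.inr (Or.inr (hfinj ?_))
      rw [h, hfal, hfal]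
      simp only [pow_succ, pow_zero, one_mul, mul_inv_rev, mul_assoc]
  have h2el : ∀ y, ∃ k : ℕ, orderOf (f y) = 2 ^ k := by
    intro y
    obtain ⟨k, hk⟩ := (IsPGroup.iff_orderOf.mp P.isPGroup') ⟨f y, hfmem y⟩
    exact ⟨k, by rw [← hk, Subgroup.orderOf_mk]⟩
  have hpp : ∀ y, IsPPart 2 (f y) (f y) := fun y =>
    ⟨1, mul_one _, Commute.one_right _, h2el y, by rw [orderOf_one]; norm_num⟩
  have hBlk : IsPBlock M (principalBlock M G) := ⟨trivIrr G, rfl⟩
  have horth : ∀ y y' : A, ¬ IsConj (f y) (f y') → ∑ i, X i y * conj (X i y') = 0 := by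
    intro y y' hnc
    have h := (Cfsg.Agent.S0925.result 2 M hM).2 (f y) (f y') (f y) (f y') (hpp y) (hpp y') hnc
      _ hBlk
    rw [finsum_block] at h
    rw [← h]
    refine Finset.sum_congr rfl (fun i _ => ?_)
    rw [hX, hX, irr_inv]
  obtain ⟨E, hE⟩ : ∃ E : A ≃ ↥(P : Subgroup G), ∀ y, (E y : G) = f y := by
    refine ⟨Equiv.ofBijective (fun y => ⟨f y, hfmem y⟩) ⟨?_, ?_⟩, fun y => rfl⟩
    · intro x y h
      exact hfinj (congrArg Subtype.val h)
    · intro u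
      obtain ⟨y, hy⟩ := (hfP u).mp u.2
      exact ⟨y, Subtype.ext hy⟩
  have hcardP : Nat.card ↥(P : Subgroup G) = Fintype.card A := by
    rw [← Nat.card_eq_fintype_card]
    exact (Nat.card_congr E).symm
  have hsq : ∀ y : A, y ≠ 0 → ∑ i, X i y * conj (X i y) = (Fintype.card A : ℂ) := by
    intro y hy
    have hu1 : f y ≠ 1 := fun h => hy ((hf1 y).mp h)
    have key := (Cfsg.Agent.S0947.result 2 M hM (f y) (h2el y) hu1
      (1 : ↥(Subgroup.centralizer ({f y} : Set G))) (by rw [orderOf_one]; norm_num)).2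
      (hidx (f y) (hfmem y) hu1)
    simp only [Subgroup.coe_one, mul_one] at key
    have hle : (P : Subgroup G) ≤ Subgroup.centralizer ({f y} : Set G) := by
      intro x hx
      obtain ⟨x', rfl⟩ := (hfP x).mp hx
      rw [Subgroup.mem_centralizer_iff]
      intro z hz
      rw [Set.mem_singleton_iff.mp hz, ← hfadd, ← hfadd, add_comm]
    rw [two_part_of_le P _ hle, hcardP, finsum_block_real] at key
    have h1 : ∑ i, X i y * conj (X i y) = ((∑ i : {χ : IrrCharacter G // χ ∈ principalBlock M G},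
        ‖(i.1 : G → ℂ) (f y)‖ ^ 2 : ℝ) : ℂ) := by
      push_cast
      refine Finset.sum_congr rfl (fun i _ => ?_)
      rw [hX, Complex.mul_conj, Complex.normSq_eq_norm_sq]
      push_cast
      rfl
    rw [h1, key]
    push_cast
    rfl
  have hK : ∀ y y' : A, y ≠ 0 → y' ≠ 0 → ∑ i, X i y * conj (X i y') =
      if (y' = y ∨ y' = al y ∨ y' = al (al y)) then (Fintype.card A : ℂ) else 0 := by
    intro y y' hy hy'
    by_cases h : y' = y ∨ y' = al y ∨ y' = al (al y)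
    · rw [if_pos h]
      have hXe : ∀ i, X i y' = X i y := by
        intro i
        rcases h with h | h | h
        · rw [h]
        · rw [h, hXal]
        · rw [h, hXal, hXal]
      rw [← hsq y hy]
      exact Finset.sum_congr rfl (fun i _ => by rw [hXe i])
    · rw [if_neg h]
      exact horth y y' (fun hc => h (hfusA y y' hc))
  have hK0 : ∀ y : A, y ≠ 0 → ∑ i, X i y * conj (X i 0) = 0 := by
    intro y hy
    apply horth
    rw [hf0]
    exact fun hc => hy ((hf1 y).mp (isConj_one_left.mp hc))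
  have hdeg : ∀ i, ∃ d : ℤ, 0 < d ∧ X i 0 = d := by
    intro i
    obtain ⟨d, hd, hd0, -⟩ := irr_degree i.1
    exact ⟨d, by exact_mod_cast hd0, by rw [hX, hf0, hd]; push_cast; rfl⟩
  obtain ⟨o, ho⟩ : ∃ o : {χ : IrrCharacter G // χ ∈ principalBlock M G}, o.1 = trivIrr G :=
    ⟨⟨trivIrr G, trivIrr_mem_principal M⟩, rfl⟩
  have hoX : ∀ y, X o y = 1 := fun y => by rw [hX, ho]; rfl
  have hEmul : ∀ u v : ↥(P : Subgroup G), E.symm (u * v) = E.symm u + E.symm v := by
    intro u v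
    apply E.injective
    apply Subtype.ext
    rw [Equiv.apply_symm_apply, Subgroup.coe_mul, hE, hfadd, ← hE, ← hE, Equiv.apply_symm_apply,
      Equiv.apply_symm_apply]
  have hE1 : E.symm 1 = 0 := by
    apply E.injective
    apply Subtype.ext
    rw [Equiv.apply_symm_apply, hE, hf0]
    rfl
  have hlamex : ∀ ψ : AddChar A ℂ, ∃ lam : ↥(P : Subgroup G) →* ℂˣ,
      ∀ u, (lam u : ℂ) = ψ (E.symm u) := by
    intro ψ
    obtain ⟨l0, hl0⟩ : ∃ l0 : ↥(P : Subgroup G) →* ℂ, ∀ u, l0 u = ψ (E.symm u) :=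
      ⟨{ toFun := fun u => ψ (E.symm u)
         map_one' := by rw [hE1, AddChar.map_zero_eq_one]
         map_mul' := fun u v => by rw [hEmul, AddChar.map_add_eq_mul] }, fun u => rfl⟩
    exact ⟨MonoidHom.toHomUnits l0, fun u => by rw [MonoidHom.coe_toHomUnits, hl0]⟩
  have hint : ∀ i (ψ : AddChar A ℂ), ∃ k : ℤ,
      (Fintype.card A : ℂ)⁻¹ * ∑ y, X i y * conj (ψ y) = k := by
    intro i ψ
    obtain ⟨lam, hlam⟩ := hlamex ψ
    obtain ⟨n, hn⟩ := classInner_isCharacter_nat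
      (IsCharacter.restrict (ZS.isCharacter_of_irr i.1.2) (P : Subgroup G))
      (ZS.isCharacter_of_irr (isIrrCharacter_of_hom lam))
    refine ⟨n, ?_⟩
    rw [Int.cast_natCast, ← hn]
    unfold classInner
    rw [hcardP]
    congr 1
    refine Fintype.sum_equiv E _ _ (fun y => ?_)
    beta_reduce
    rw [hX, hlam, Equiv.symm_apply_apply, hE]
  have hr : ∀ ψ : AddChar A ℂ, (∀ y : A, y + y = 0 → ψ y = 1) →
      (∑ i, ((Fintype.card A : ℂ)⁻¹ * ∑ y, X i y * conj (1 - ψ y)) * (X i t) ^ 2 / X i 0 = 0) ∧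
      (∑ i, ((Fintype.card A : ℂ)⁻¹ * ∑ y, X i y * conj (1 - ψ y)) * X i 0 = 0) ∧
      (∑ i, ((Fintype.card A : ℂ)⁻¹ * ∑ y, X i y * conj (1 - ψ y)) * X i t = 0) := by
    intro ψ hψ
    obtain ⟨lam, hlam⟩ := hlamex ψ
    obtain ⟨θ, hθdef⟩ : ∃ θ : ↥(P : Subgroup G) → ℂ, θ = fun u => (1 : ℂ) - (lam u : ℂ) :=
      ⟨_, rfl⟩
    have hθgen : IsGeneralizedCharacter ↥(P : Subgroup G) θ :=
      ⟨fun _ => 1, fun u => (lam u : ℂ), ZS.isCharacter_of_irr isIrrCharacter_one,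
        ZS.isCharacter_of_irr (isIrrCharacter_of_hom lam), by rw [hθdef]; rfl⟩
    obtain ⟨U, hUdef⟩ : ∃ U : Set G, U = {x | ∃ y : A, f y = x ∧ ψ y ≠ 1} := ⟨_, rfl⟩
    have hUP : U ⊆ ((P : Subgroup G) : Set G) := by
      rw [hUdef]
      rintro x ⟨y, rfl, -⟩
      exact hfmem y
    have ht2' : orderOf (f t) = 2 := by
      apply orderOf_eq_prime
      · rw [pow_two, ← hfadd, ht2, hf0]
      · exact fun h => ht ((hf1 t).mp h)
    have hinv : ∀ u ∈ U, ∀ g : G, (g * f t * g⁻¹) * u * (g * f t * g⁻¹)⁻¹ ≠ u⁻¹ := by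
      intro u hu g h
      rw [hUdef] at hu
      obtain ⟨y, rfl, hy⟩ := hu
      apply hy
      apply hψ
      have hc : IsConj (f y) (f (-y)) := isConj_iff.mpr ⟨g * f t * g⁻¹, by rw [h, hfneg]⟩
      rcases hfusA y (-y) hc with h1 | h1 | h1
      · calc y + y = y + -y := by rw [h1]
          _ = 0 := add_neg_cancel y
      · have h2 : al (al y) = y := by rw [← h1, map_neg, ← h1, neg_neg]
        have h3 : al y = y := by
          have h4 := hal3 y
          rw [h2] at h4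
          exact h4
        have h4 : y = 0 := by_contra (fun h0 => hal1 y h0 h3)
        rw [h4, add_zero]
      · have e1 : al (al (-y)) = y := by rw [map_neg, map_neg, ← h1, neg_neg]
        have e2 : al (al (-y)) = al y := by rw [h1, hal3]
        have h4 : y = 0 := by_contra (fun h0 => hal1 y h0 (e2.symm.trans e1))
        rw [h4, add_zero]
    have hθU : ∀ u : ↥(P : Subgroup G), (u : G) ∉ U → θ u = 0 := by
      intro u hu
      rw [hθdef]
      beta_reduce
      rw [hlam]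
      have h1 : ψ (E.symm u) = 1 := by
        by_contra h
        exact hu (by rw [hUdef]; exact ⟨E.symm u, by rw [← hE, Equiv.apply_symm_apply], h⟩)
      rw [h1, sub_self]
    obtain ⟨r1, r2, r3, -⟩ := Cfsg.Agent.S4722.result M hM (P : Subgroup G) P.isPGroup' U hUP
      (f t) ht2' hinv θ hθgen hθU
    have hcoef : ∀ χ : IrrCharacter G, (Nat.card ↥(P : Subgroup G) : ℂ)⁻¹ *
        ∑ᶠ u : ↥(P : Subgroup G), (χ : G → ℂ) (u : G) * θ u⁻¹ =
        (Fintype.card A : ℂ)⁻¹ * ∑ y, (χ : G → ℂ) (f y) * conj (1 - ψ y) := by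
      intro χ
      rw [finsum_eq_sum_of_fintype, hcardP]
      congr 1
      refine (Fintype.sum_equiv E _ _ (fun y => ?_)).symm
      rw [hθdef]
      beta_reduce
      rw [hlam, hE, map_sub, map_one]
      have h1 : E.symm (E y)⁻¹ = -y := by
        apply E.injective
        apply Subtype.ext
        rw [Equiv.apply_symm_apply, Subgroup.coe_inv, hE, hE, hfneg]
      rw [h1, AddChar.map_neg_eq_conj]
    rw [finsum_block] at r1 r2 r3
    simp only [hcoef] at r1 r2 r3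
    simp only [hX, hf0]
    exact ⟨r1, r2, r3⟩
  obtain ⟨i, hio, hi⟩ := Cfsg.Agent.Lib.Lead.HomoChar.homo_main X al o hn16 hK hK0 hal1 hal3
    hXal hint hdeg hoX t ht hy2 hr
  refine ⟨i.1, fun h => hio (Subtype.ext (h.trans ho.symm)), fun x hx => ?_⟩
  obtain ⟨y, rfl⟩ := (hfP x).mp hx
  rw [← hX]
  exact hi y

end Cfsg.Agent.Lib.Lead.HomoApp
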