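import Mathlib
import Cfsg.Agent.Lib.Lead.HomoApp
import Cfsg.Agent.Lib.Helper1.Burnside
import Cfsg.Agent.Lib.Helper1.Cores
import Cfsg.Agent.Lib.Helper6.PSolv3

set_option autoImplicit false

namespace Cfsg.Agent.Lib.Lead.HomoFin

open Cfsg Cfsg.Agent.Lib.Helper10 Cfsg.Agent.Lib.Helper2 Cfsg.Agent.Lib.Helper25

open scoped ComplexConjugate

universe u

variable {G : Type u} [Group G]

/-- a nontrivial character of the principal `2`-block that is `1` on a homocyclic Sylow
`2`-subgroup of rank two and exponent at least `4` which is not central in its normalizer -/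
theorem exists_char [Finite G] (P : Sylow 2 G) (m : ℕ) (hm : 2 ≤ m)
    (e : (P : Subgroup G) ≃* Multiplicative (ZMod (2 ^ m) × ZMod (2 ^ m)))
    (hNC : ¬ Subgroup.normalizer (P : Set G) ≤ Subgroup.centralizer (P : Set G)) :
    ∃ χ : IrrCharacter G, χ ≠ trivIrr G ∧ ∀ x ∈ P, (χ : G → ℂ) x = 1 := by
  obtain ⟨a, haN, ha1, ha3, hfus, hidx, -⟩ :=
    Cfsg.Agent.Lib.Helper19.Homocyc.homocyclic_struct P m hm e hNC
  haveI : NeZero (2 ^ m) := ⟨by positivity⟩
  refine Cfsg.Agent.Lib.Lead.HomoApp.exists_char_aux P (A := ZMod (2 ^ m) × ZMod (2 ^ m))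
    (fun y => ((e.symm (Multiplicative.ofAdd y) : ↥(P : Subgroup G)) : G)) ?_ ?_ ?_ ?_
    (((2 ^ (m - 1) : ℕ) : ZMod (2 ^ m)), 0) ?_ ?_ ?_ a ?_ ha1 ha3 hfus hidx
  · intro x y
    rw [ofAdd_add, map_mul, Subgroup.coe_mul]
  · intro x y h
    exact Multiplicative.ofAdd.injective (e.symm.injective (Subtype.ext h))
  · intro u
    constructor
    · intro hu
      exact ⟨Multiplicative.toAdd (e ⟨u, hu⟩), by simp⟩
    · rintro ⟨y, rfl⟩
      exact (e.symm _).2
  · rw [Fintype.card_prod, ZMod.card]
    exact Nat.mul_dvd_mul (pow_dvd_pow 2 hm) (pow_dvd_pow 2 hm)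
  · intro h
    exact Cfsg.Agent.Lib.Helper19.Homocyc.zmod_half_ne_zero m (by omega) (congrArg Prod.fst h)
  · ext
    · exact Cfsg.Agent.Lib.Helper19.Homocyc.zmod_half_add_half m (by omega)
    · simp
  · refine ⟨(1, 0), fun h => ?_⟩
    have h1 : (1 + 1 : ZMod (2 ^ m)) = 0 := congrArg Prod.fst h
    have h2 : ((2 : ℕ) : ZMod (2 ^ m)) = 0 := by
      rw [← h1]
      push_cast
      norm_num
    rw [ZMod.natCast_eq_zero_iff] at h2
    have h3 := Nat.le_of_dvd (by norm_num) h2
    have h4 : 2 ^ 2 ≤ 2 ^ m := Nat.pow_le_pow_right (by norm_num) hm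
    omega
  · intro u hu
    exact (Subgroup.mem_normalizer_iff.mp haN u).mp hu

/-- the kernel of a nontrivial irreducible character is a proper normal subgroup -/
theorem ker_proper [Finite G] (χ : IrrCharacter G) (hχ : χ ≠ trivIrr G) :
    ∃ K : Subgroup G, K.Normal ∧ K ≠ ⊤ ∧
      ∀ x, (χ : G → ℂ) x = (χ : G → ℂ) 1 → x ∈ K := by
  classical
  haveI := Fintype.ofFinite G
  obtain ⟨n, ρ, hρ, hχ'⟩ := χ.2
  refine ⟨MonoidHom.ker ρ, MonoidHom.normal_ker ρ, ?_, ?_⟩
  · intro htop
    apply hχ
    have hker : ∀ g : G, ρ g = 1 := fun g => MonoidHom.mem_ker.mp (by rw [htop]; trivial)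
    have hconst : ∀ g, (χ : G → ℂ) g = (n : ℂ) := by
      intro g
      rw [← hχ']
      unfold Representation.character
      rw [hker g]
      simp
    have hself := classInner_irr_self χ.2
    rw [classInner_def] at hself
    have hsum : ∑ g : G, (χ : G → ℂ) g * conj ((χ : G → ℂ) g) =
        (Nat.card G : ℂ) * ((n : ℂ) * n) := by
      rw [Finset.sum_congr rfl (fun g _ => by rw [hconst g, Complex.conj_natCast])]
      rw [Finset.sum_const, Finset.card_univ, nsmul_eq_mul, Nat.card_eq_fintype_card]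
    rw [hsum] at hself
    have hc : (Nat.card G : ℂ) ≠ 0 := by
      have : 0 < Nat.card G := Nat.card_pos
      exact_mod_cast this.ne'
    rw [← mul_assoc, inv_mul_cancel₀ hc, one_mul] at hself
    have hn : n * n = 1 := by exact_mod_cast hself
    have hn1 : n = 1 := by nlinarith [Nat.eq_one_of_mul_eq_one_left hn]
    apply Subtype.ext
    funext g
    rw [hconst g, hn1]
    simp [trivIrr]
  · intro x hx
    have h1 : ρ.character x = (Module.finrank ℂ (Fin n → ℂ) : ℂ) := by
      rw [hχ', hx, ← hχ', Representation.char_one]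
    exact MonoidHom.mem_ker.mpr ((char_eq_finrank_iff ρ x).mp h1)

/-- a normal subgroup of a group without odd normal subgroups has none either -/
theorem odd_core_bot_of_normal [Finite G]
    (hO : ∀ N : Subgroup G, N.Normal → Odd (Nat.card N) → N = ⊥)
    (K : Subgroup G) [K.Normal] :
    ∀ N : Subgroup ↥K, N.Normal → Odd (Nat.card N) → N = ⊥ := by
  intro N hN hodd
  have h1 : N ≤ pPrimeCore 2 ↥K :=
    Cfsg.Agent.Lib.Helper1.le_pPrimeCore 2 hN (Nat.coprime_two_right.mpr hodd)
  have h2 : ((pPrimeCore 2 ↥K).map K.subtype).Normal :=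
    Cfsg.Agent.Lib.Helper6.pPrimeCore_map_subtype_normal K
  have h3 : Odd (Nat.card ((pPrimeCore 2 ↥K).map K.subtype)) := by
    rw [Subgroup.card_map_of_injective K.subtype_injective]
    exact Nat.coprime_two_right.mp (Cfsg.Agent.Lib.Helper1.pPrimeCore_coprime 2)
  have h4 := hO _ h2 h3
  have h5 : pPrimeCore 2 ↥K = ⊥ :=
    (Subgroup.map_eq_bot_iff_of_injective _ K.subtype_injective).mp h4
  rw [h5] at h1
  exact le_bot_iff.mp h1

/-- a group with a Sylow `2`-subgroup central in its normalizer and no odd normal subgroup is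
a `2`-group -/
theorem sylow_eq_top [Finite G] (P : Sylow 2 G)
    (hNC : Subgroup.normalizer (P : Set G) ≤ Subgroup.centralizer (P : Set G))
    (hO : ∀ N : Subgroup G, N.Normal → Odd (Nat.card N) → N = ⊥) :
    (P : Subgroup G) = ⊤ := by
  haveI : Fact (Nat.Prime 2) := ⟨Nat.prime_two⟩
  obtain ⟨P', N, hN, hcomp⟩ :=
    Cfsg.Agent.Lib.Helper1.hasNormalPComplement_of_le_centralizer P hNC
  have hodd : Odd (Nat.card N) := by
    have h2 := P'.not_dvd_index
    rw [hcomp.index_eq_card] at h2
    exact Nat.odd_iff.mpr (by omega)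
  have hNbot := hO N hN hodd
  have hP'top : (P' : Subgroup G) = ⊤ := by
    have h := hcomp.sup_eq_top
    rw [hNbot, bot_sup_eq] at h
    exact h
  apply Subgroup.eq_top_of_card_eq
  rw [P.card_eq_multiplicity, ← P'.card_eq_multiplicity, hP'top, Subgroup.card_top]

theorem normal_aux (n : ℕ) : ∀ (G : Type u) [Group G] [Finite G], Nat.card G = n →
    ∀ (P : Sylow 2 G) (m : ℕ), 2 ≤ m →
    ((P : Subgroup G) ≃* Multiplicative (ZMod (2 ^ m) × ZMod (2 ^ m))) →
    (∀ N : Subgroup G, N.Normal → Odd (Nat.card N) → N = ⊥) → (P : Subgroup G).Normal := by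
  induction n using Nat.strong_induction_on with
  | _ n ih =>
    intro G _ _ hcard P m hm e hO
    haveI : Fact (Nat.Prime 2) := ⟨Nat.prime_two⟩
    by_cases hNC : Subgroup.normalizer (P : Set G) ≤ Subgroup.centralizer (P : Set G)
    · rw [sylow_eq_top P hNC hO]
      infer_instance
    · obtain ⟨χ, hχ, hχP⟩ := exists_char P m hm e hNC
      obtain ⟨K, hKn, hKtop, hK⟩ := ker_proper χ hχ
      have hPK : (P : Subgroup G) ≤ K :=
        fun x hx => hK x (by rw [hχP x hx, hχP 1 (one_mem _)])
      haveI := hKn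
      have hlt : Nat.card ↥K < n := by
        rw [← hcard]
        exact lt_of_le_of_ne (Subgroup.card_le_card_group K)
          (fun h => hKtop ((Subgroup.card_eq_iff_eq_top K).mp h))
      have hOK := odd_core_bot_of_normal hO K
      have e' : ↥((P.subtype hPK : Sylow 2 ↥K) : Subgroup ↥K) ≃*
          Multiplicative (ZMod (2 ^ m) × ZMod (2 ^ m)) :=
        (Subgroup.subgroupOfEquivOfLe hPK).trans e
      have hn' := ih _ hlt ↥K rfl (P.subtype hPK) m hm e' hOK
      haveI : ((P.subtype hPK : Sylow 2 ↥K) : Subgroup ↥K).Characteristic :=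
        Sylow.characteristic_of_normal _ hn'
      have h3 : (Subgroup.map K.subtype ((P.subtype hPK : Sylow 2 ↥K) : Subgroup ↥K)).Normal :=
        ConjAct.normal_of_characteristic_of_normal
      rw [Sylow.coe_subtype, Subgroup.map_subgroupOf_eq_of_le hPK] at h3
      exact h3

/-- **Brauer**: a finite group with homocyclic Sylow `2`-subgroup of rank two and exponent at
least `4` and no odd normal subgroup -/
theorem main [Finite G] (P : Sylow 2 G) (m : ℕ) (hm : 2 ≤ m)
    (e : (P : Subgroup G) ≃* Multiplicative (ZMod (2 ^ m) × ZMod (2 ^ m)))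
    (hO : ∀ N : Subgroup G, N.Normal → Odd (Nat.card N) → N = ⊥) :
    (P : Subgroup G).Normal ∧ Subgroup.centralizer (P : Set G) = (P : Subgroup G) ∧
      ((P : Subgroup G).index = 1 ∨ (P : Subgroup G).index = 3) := by
  haveI : Fact (Nat.Prime 2) := ⟨Nat.prime_two⟩
  have hPn : (P : Subgroup G).Normal := normal_aux _ G rfl P m hm e hO
  have hab : ∀ x ∈ P, ∀ y ∈ P, x * y = y * x := by
    intro x hx y hy
    have h1 : e (⟨x, hx⟩ * ⟨y, hy⟩) = e (⟨y, hy⟩ * ⟨x, hx⟩) := by
      rw [map_mul e, map_mul e, mul_comm]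
    exact congrArg Subtype.val (e.injective h1)
  have hPC : (P : Subgroup G) ≤ Subgroup.centralizer (P : Set G) :=
    fun x hx => Subgroup.mem_centralizer_iff.mpr (fun y hy => hab y hy x hx)
  haveI := hPn
  haveI : (Subgroup.centralizer ((P : Subgroup G) : Set G)).Normal := Subgroup.normal_centralizer
  have hOC := odd_core_bot_of_normal hO (Subgroup.centralizer ((P : Subgroup G) : Set G))
  have hCP : Subgroup.centralizer (P : Set G) = (P : Subgroup G) := by
    have hcen : Subgroup.normalizer ((P.subtype hPC : Sylow 2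
          ↥(Subgroup.centralizer ((P : Subgroup G) : Set G))) : Set
          ↥(Subgroup.centralizer ((P : Subgroup G) : Set G))) ≤
        Subgroup.centralizer ((P.subtype hPC : Sylow 2
          ↥(Subgroup.centralizer ((P : Subgroup G) : Set G))) : Set
          ↥(Subgroup.centralizer ((P : Subgroup G) : Set G))) := by
      intro c _
      rw [Subgroup.mem_centralizer_iff]
      intro q hq
      apply Subtype.ext
      have hq' : (q : G) ∈ (P : Subgroup G) := hq
      exact Subgroup.mem_centralizer_iff.mp c.2 (q : G) hq'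
    have htop := sylow_eq_top (P.subtype hPC) hcen hOC
    have hcard : Nat.card ↥(Subgroup.centralizer ((P : Subgroup G) : Set G)) =
        Nat.card ↥(P : Subgroup G) := by
      rw [← Subgroup.card_top (G := ↥(Subgroup.centralizer ((P : Subgroup G) : Set G))), ← htop,
        Sylow.coe_subtype]
      exact Nat.card_congr (Subgroup.subgroupOfEquivOfLe hPC).toEquiv
    exact (Subgroup.eq_of_le_of_card_ge hPC (le_of_eq hcard)).symm
  refine ⟨hPn, hCP, ?_⟩
  have hNtop : Subgroup.normalizer (P : Set G) = ⊤ := Subgroup.normalizer_eq_top_iff.mpr hPn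
  by_cases hNC : Subgroup.normalizer (P : Set G) ≤ Subgroup.centralizer (P : Set G)
  · left
    rw [hNtop, hCP] at hNC
    rw [top_le_iff.mp hNC]
    exact Subgroup.index_top
  · obtain ⟨a, haN, -, -, -, -, hcos⟩ :=
      Cfsg.Agent.Lib.Helper19.Homocyc.homocyclic_struct P m hm e hNC
    rw [hCP] at hcos
    have hle : (P : Subgroup G).index ≤ 3 := by
      have hsurj : Function.Surjective
          (fun i : Fin 3 => (QuotientGroup.mk (a ^ (i : ℕ)) : G ⧸ (P : Subgroup G))) := by
        intro q
        induction q using QuotientGroup.induction_on with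
        | _ g =>
          have hg : g ∈ Subgroup.normalizer (P : Set G) := by rw [hNtop]; trivial
          rcases hcos g hg with h | h | h
          · exact ⟨0, QuotientGroup.eq.mpr (by simpa using h)⟩
          · exact ⟨1, QuotientGroup.eq.mpr (by simpa using h)⟩
          · exact ⟨2, QuotientGroup.eq.mpr (by simpa using h)⟩
      have h := Nat.card_le_card_of_surjective _ hsurj
      rw [Nat.card_fin] at h
      exact h
    have hodd := P.not_dvd_index
    have hpos : (P : Subgroup G).index ≠ 0 := Subgroup.index_ne_zero_of_finite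
    omega

end Cfsg.Agent.Lib.Lead.HomoFin
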