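import Mathlib
import Cfsg.Agent.Lib.Lead.SylowTwoP
import Cfsg.Agent.Lib.Helper8.SimpleAux

/-!
Tools for non-simplicity arguments: Burnside transfer turned into arithmetic.
-/

set_option autoImplicit false
set_option linter.style.haveILetI false
set_option linter.unusedSectionVars false

namespace Cfsg.Agent.Lib.Lead.SimpleSyl

open Cfsg.Agent.Lib.Lead.SylowTwoP Cfsg.Agent.Lib.Helper8

variable {G : Type*} [Group G]

theorem mem_of_pow_mem_coprime (H : Subgroup G) (g : G) (a b : ℕ) (hab : Nat.Coprime a b)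
    (ha : g ^ a ∈ H) (hb : g ^ b ∈ H) : g ∈ H := by
  have h1 : (g ^ a) ^ (Nat.gcdA a b) * (g ^ b) ^ (Nat.gcdB a b) ∈ H :=
    H.mul_mem (H.zpow_mem ha _) (H.zpow_mem hb _)
  have h2 : (g ^ a) ^ (Nat.gcdA a b) * (g ^ b) ^ (Nat.gcdB a b) = g := by
    rw [← zpow_natCast g a, ← zpow_natCast g b, ← zpow_mul, ← zpow_mul, ← zpow_add,
      ← Nat.gcd_eq_gcd_ab, hab.gcd_eq_one]
    simp
  rw [h2] at h1
  exact h1

theorem isPGroup_zpowers_of_pow (q : ℕ) (g : G) (n : ℕ) (hg : g ^ q ^ n = 1) :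
    IsPGroup q (Subgroup.zpowers g) := by
  rintro ⟨x, hx⟩
  obtain ⟨i, rfl⟩ := Subgroup.mem_zpowers_iff.mp hx
  refine ⟨n, ?_⟩
  apply Subtype.ext
  show (g ^ i) ^ q ^ n = 1
  rw [← zpow_natCast, ← zpow_mul, mul_comm, zpow_mul, zpow_natCast, hg, one_zpow]

/-- If `N(P) ≰ C(P)` for an abelian Sylow `p`-subgroup `P`, some prime `s ≠ p` dividing `|G|`
satisfies `|P| ≡ c (mod s)` for a proper divisor `c` of `|P|`. -/
theorem exists_prime_of_not_le [Finite G] (p : ℕ) [Fact p.Prime] (P : Sylow p G)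
    (hab : (P : Subgroup G) ≤ Subgroup.centralizer ((P : Subgroup G) : Set G))
    (hN : ¬ Subgroup.normalizer ((P : Subgroup G) : Set G) ≤
      Subgroup.centralizer ((P : Subgroup G) : Set G)) :
    ∃ s c : ℕ, s.Prime ∧ s ≠ p ∧
      s ∣ Nat.card ↥(Subgroup.normalizer ((P : Subgroup G) : Set G)) ∧
      c ∣ Nat.card ↥(P : Subgroup G) ∧
      c < Nat.card ↥(P : Subgroup G) ∧ Nat.card ↥(P : Subgroup G) ≡ c [MOD s] := by
  classical
  have hex : ∃ n : ℕ, ∃ g : G, g ∈ Subgroup.normalizer ((P : Subgroup G) : Set G) ∧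
      g ∉ Subgroup.centralizer ((P : Subgroup G) : Set G) ∧ orderOf g = n := by
    obtain ⟨g, hgN, hgC⟩ := SetLike.not_le_iff_exists.mp hN
    exact ⟨_, g, hgN, hgC, rfl⟩
  obtain ⟨g, hgN, hgC, hgn⟩ := Nat.find_spec hex
  have hmin : ∀ h : G, h ∈ Subgroup.normalizer ((P : Subgroup G) : Set G) →
      orderOf h < orderOf g → h ∈ Subgroup.centralizer ((P : Subgroup G) : Set G) := by
    intro h hhN hlt
    by_contra hhC
    have := Nat.find_min' hex ⟨h, hhN, hhC, rfl⟩
    omega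
  have hg1 : g ≠ 1 := by rintro rfl; exact hgC (Subgroup.one_mem _)
  have hn0 : orderOf g ≠ 0 := (orderOf_pos g).ne'
  have hn1 : orderOf g ≠ 1 := by rw [Ne, orderOf_eq_one_iff]; exact hg1
  obtain ⟨s, hs⟩ : ∃ s : ℕ, s = (orderOf g).minFac := ⟨_, rfl⟩
  have hsp : s.Prime := by rw [hs]; exact Nat.minFac_prime hn1
  have hsdvd : s ∣ orderOf g := by rw [hs]; exact Nat.minFac_dvd _
  obtain ⟨e, m, hsm, hnem⟩ := Nat.exists_eq_pow_mul_and_not_dvd hn0 s hsp.ne_one
  have he : e ≠ 0 := by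
    rintro rfl
    apply hsm
    rw [hnem, pow_zero, one_mul] at hsdvd
    exact hsdvd
  have hm0 : m ≠ 0 := by rintro rfl; rw [mul_zero] at hnem; exact hn0 hnem
  have hse : 2 ≤ s ^ e := by
    calc 2 ≤ s := hsp.two_le
      _ = s ^ 1 := (pow_one s).symm
      _ ≤ s ^ e := Nat.pow_le_pow_right hsp.pos (Nat.one_le_iff_ne_zero.mpr he)
  have hm1 : m = 1 := by
    by_contra hm
    have hm2 : 2 ≤ m := by omega
    have ho1 : orderOf (g ^ s ^ e) ≤ m := by
      apply orderOf_le_of_pow_eq_one (by omega)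
      rw [← pow_mul, ← hnem, pow_orderOf_eq_one]
    have ho2 : orderOf (g ^ m) ≤ s ^ e := by
      apply orderOf_le_of_pow_eq_one (by omega)
      rw [← pow_mul, mul_comm, ← hnem, pow_orderOf_eq_one]
    have hc1 := hmin _ (Subgroup.pow_mem _ hgN (s ^ e)) (by rw [hnem]; nlinarith)
    have hc2 := hmin _ (Subgroup.pow_mem _ hgN m) (by rw [hnem]; nlinarith)
    have hcop : Nat.Coprime (s ^ e) m :=
      Nat.Coprime.pow_left e ((Nat.Prime.coprime_iff_not_dvd hsp).mpr hsm)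
    exact hgC (mem_of_pow_mem_coprime _ g _ _ hcop hc1 hc2)
  rw [hm1, mul_one] at hnem
  have hpow : g ^ s ^ e = 1 := by rw [← hnem, pow_orderOf_eq_one]
  have hsne : s ≠ p := by
    rintro rfl
    exact hgC (hab (pelt_mem g e hpow P hgN))
  have hsG : s ∣ Nat.card ↥(Subgroup.normalizer ((P : Subgroup G) : Set G)) := by
    have h1 : orderOf (⟨g, hgN⟩ : ↥(Subgroup.normalizer ((P : Subgroup G) : Set G))) = orderOf g :=
      Subgroup.orderOf_mk g hgN
    rw [← h1] at hsdvd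
    exact hsdvd.trans (orderOf_dvd_natCard _)
  -- the action of `⟨g⟩` on `P`
  have hHN : Subgroup.zpowers g ≤ Subgroup.normalizer ((P : Subgroup G) : Set G) :=
    (Subgroup.zpowers_le).mpr hgN
  have hH : IsPGroup s (Subgroup.zpowers g) := isPGroup_zpowers_of_pow s g e hpow
  letI act : MulAction ↥(Subgroup.zpowers g) ↥(P : Subgroup G) :=
    { smul := fun x u => ⟨(x : G) * u * (x : G)⁻¹,
        (Subgroup.mem_normalizer_iff.mp (hHN x.2) u).mp u.2⟩
      one_smul := fun u => Subtype.ext (by show (1 : G) * u * (1 : G)⁻¹ = u; simp)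
      mul_smul := fun x y u => Subtype.ext (by
        show ((x : G) * (y : G)) * u * ((x : G) * (y : G))⁻¹ =
          (x : G) * ((y : G) * u * (y : G)⁻¹) * (x : G)⁻¹
        group) }
  haveI : Fact s.Prime := ⟨hsp⟩
  have h1 := hH.card_modEq_card_fixedPoints (↥(P : Subgroup G))
  have h2 : Nat.card (MulAction.fixedPoints ↥(Subgroup.zpowers g) ↥(P : Subgroup G)) =
      Nat.card ↥((P : Subgroup G) ⊓ Subgroup.centralizer ((Subgroup.zpowers g : Subgroup G) : Set G)) := by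
    refine Nat.card_congr ⟨fun u => ⟨((u : ↥(P : Subgroup G)) : G), u.1.2, fun x hx => ?_⟩,
      fun u => ⟨⟨u.1, u.2.1⟩, fun x => ?_⟩, fun u => rfl, fun u => rfl⟩
    · have h3 := u.2 ⟨x, hx⟩
      have h4 : x * ((u : ↥(P : Subgroup G)) : G) * x⁻¹ = ((u : ↥(P : Subgroup G)) : G) :=
        congrArg Subtype.val h3
      calc x * ((u : ↥(P : Subgroup G)) : G) = x * ((u : ↥(P : Subgroup G)) : G) * x⁻¹ * x := by group
        _ = ((u : ↥(P : Subgroup G)) : G) * x := by rw [h4]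
    · apply Subtype.ext
      show (x : G) * (u : G) * (x : G)⁻¹ = (u : G)
      have h3 := u.2.2 (x : G) x.2
      rw [h3]
      group
  rw [h2] at h1
  refine ⟨s, _, hsp, hsne, hsG, Subgroup.card_dvd_of_le inf_le_left, ?_, h1⟩
  have hle : Nat.card ↥((P : Subgroup G) ⊓
      Subgroup.centralizer ((Subgroup.zpowers g : Subgroup G) : Set G)) ≤
      Nat.card ↥(P : Subgroup G) := Subgroup.card_le_of_le inf_le_left
  rcases hle.lt_or_eq with hlt | heq
  · exact hlt
  · exfalso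
    have h3 : (P : Subgroup G) ⊓ Subgroup.centralizer ((Subgroup.zpowers g : Subgroup G) : Set G) =
        (P : Subgroup G) := Subgroup.eq_of_le_of_card_ge inf_le_left heq.ge
    apply hgC
    rw [Subgroup.mem_centralizer_iff]
    intro u hu
    have hu' : u ∈ (P : Subgroup G) := hu
    rw [← h3] at hu'
    have h4 := hu'.2 g (Subgroup.mem_zpowers g)
    exact h4.symm

/-- Burnside's transfer theorem in a simple group, as arithmetic: if a Sylow `ℓ`-subgroup has
order `ℓ` or `ℓ²`, some other prime `s` divides the order of its normalizer (so `s * n_ℓ ∣ m`)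
and divides `|P| - c` for a proper divisor `c` of `|P|`. -/
theorem simple_key [Finite G] [IsSimpleGroup G] (ℓ : ℕ) [Fact ℓ.Prime] (a m : ℕ) (ha1 : 1 ≤ a)
    (ha2 : a ≤ 2) (hm : ¬ ℓ ∣ m) (hm1 : m ≠ 1) (hG : Nat.card G = ℓ ^ a * m) :
    ∃ s c : ℕ, s.Prime ∧ s ≠ ℓ ∧ s * Nat.card (Sylow ℓ G) ∣ m ∧ c ∣ ℓ ^ a ∧ c < ℓ ^ a ∧
      ℓ ^ a ≡ c [MOD s] := by
  have hℓ : ℓ.Prime := Fact.out
  obtain ⟨P⟩ : Nonempty (Sylow ℓ G) := inferInstance
  have hPcard : Nat.card ↥(P : Subgroup G) = ℓ ^ a := sylow_card_of_card_eq a m hm hG P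
  have hcomm : ∀ x y : ↥(P : Subgroup G), x * y = y * x := by
    have ha : a = 1 ∨ a = 2 := by omega
    rcases ha with rfl | rfl
    · rw [pow_one] at hPcard
      haveI : IsCyclic ↥(P : Subgroup G) := isCyclic_of_prime_card hPcard
      letI := IsCyclic.commGroup (α := ↥(P : Subgroup G))
      intro x y
      exact mul_comm x y
    · exact isMulCommutative_iff.mp (IsPGroup.isMulCommutative_of_card_eq_prime_sq hPcard)
  have hab : (P : Subgroup G) ≤ Subgroup.centralizer ((P : Subgroup G) : Set G) := by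
    intro x hx
    rw [Subgroup.mem_centralizer_iff]
    intro y hy
    have := hcomm ⟨y, hy⟩ ⟨x, hx⟩
    exact congrArg Subtype.val this
  have hpow2 : 2 ≤ ℓ ^ a := by
    calc 2 ≤ ℓ := hℓ.two_le
      _ = ℓ ^ 1 := (pow_one ℓ).symm
      _ ≤ ℓ ^ a := Nat.pow_le_pow_right hℓ.pos ha1
  have hN := not_normalizer_le_centralizer_of_simple P (by rw [hPcard]; omega) (by
    rw [hPcard, hG]
    intro h
    have : ℓ ^ a * 1 = ℓ ^ a * m := by rw [mul_one]; exact h
    exact hm1 (Nat.eq_of_mul_eq_mul_left (by omega) this).symm)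
  obtain ⟨s, c, h1, h2, h3, h4, h5, h6⟩ := exists_prime_of_not_le ℓ P hab hN
  rw [hPcard] at h4 h5 h6
  refine ⟨s, c, h1, h2, ?_, h4, h5, h6⟩
  have hPN : ℓ ^ a ∣ Nat.card ↥(Subgroup.normalizer ((P : Subgroup G) : Set G)) := by
    rw [← hPcard]
    exact Subgroup.card_dvd_of_le Subgroup.le_normalizer
  have hcop : Nat.Coprime s (ℓ ^ a) :=
    Nat.Coprime.pow_right a ((Nat.coprime_primes h1 hℓ).mpr h2)
  obtain ⟨k, hk⟩ := Nat.Coprime.mul_dvd_of_dvd_of_dvd hcop h3 hPN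
  have hmul := card_sylow_mul_card_normalizer P
  rw [hk, hG] at hmul
  refine ⟨k, ?_⟩
  have h7 : ℓ ^ a * m = ℓ ^ a * (s * Nat.card (Sylow ℓ G) * k) := by
    rw [← hmul]; ring
  exact Nat.eq_of_mul_eq_mul_left (by omega) h7

/-- Sylow counting in a simple group. -/
theorem sylow_facts [Finite G] [IsSimpleGroup G] (ℓ a m : ℕ) [Fact ℓ.Prime] (ha : 1 ≤ a)
    (hm : ¬ ℓ ∣ m) (hm1 : m ≠ 1) (hG : Nat.card G = ℓ ^ a * m) :
    Nat.card (Sylow ℓ G) ∣ m ∧ Nat.card (Sylow ℓ G) % ℓ = 1 ∧ Nat.card (Sylow ℓ G) ≠ 1 := by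
  have hℓ : ℓ.Prime := Fact.out
  obtain ⟨P⟩ : Nonempty (Sylow ℓ G) := inferInstance
  have hPcard : Nat.card ↥(P : Subgroup G) = ℓ ^ a := sylow_card_of_card_eq a m hm hG P
  have hpow2 : 2 ≤ ℓ ^ a := by
    calc 2 ≤ ℓ := hℓ.two_le
      _ = ℓ ^ 1 := (pow_one ℓ).symm
      _ ≤ ℓ ^ a := Nat.pow_le_pow_right hℓ.pos ha
  refine ⟨card_sylow_dvd_of_card_eq a m hm hG, card_sylow_mod, ?_⟩
  exact card_sylow_ne_one_of_simple P (by rw [hPcard]; omega) (by
    rw [hPcard, hG]
    intro h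
    have : ℓ ^ a * 1 = ℓ ^ a * m := by rw [mul_one]; exact h
    exact hm1 (Nat.eq_of_mul_eq_mul_left (by omega) this).symm)

/-- A nonabelian simple group embeds in the alternating group on its Sylow `ℓ`-subgroups. -/
theorem fact_dvd [Finite G] [IsSimpleGroup G] (hnc : ¬ IsMulCommutative G) (ℓ : ℕ) [Fact ℓ.Prime]
    (hne : Nat.card (Sylow ℓ G) ≠ 1) :
    2 * Nat.card G ∣ (Nat.card (Sylow ℓ G)).factorial := by
  obtain ⟨P⟩ : Nonempty (Sylow ℓ G) := inferInstance
  have h0 : Nat.card (Sylow ℓ G) = (Subgroup.normalizer ((P : Subgroup G) : Set G)).index :=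
    Sylow.card_eq_index_normalizer P
  have h := two_mul_card_dvd_factorial_of_simple hnc
    (Subgroup.normalizer ((P : Subgroup G) : Set G)) (by
      intro htop
      apply hne
      rw [h0, htop, Subgroup.index_top])
  rw [← h0] at h
  exact h

/-- A simple group whose order is not prime is not commutative. -/
theorem not_comm_of_not_prime [Finite G] [IsSimpleGroup G] (h : ¬ (Nat.card G).Prime) :
    ¬ IsMulCommutative G := by
  intro hc
  letI : CommGroup G := { (inferInstance : Group G) with mul_comm := isMulCommutative_iff.mp hc }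
  exact h IsSimpleGroup.prime_card

/-- A Sylow subgroup of order `ℓ` or `ℓ²` is abelian. -/
theorem sylow_le_centralizer [Finite G] (ℓ : ℕ) [Fact ℓ.Prime] (a : ℕ) (ha : a = 1 ∨ a = 2)
    (P : Sylow ℓ G) (hPcard : Nat.card ↥(P : Subgroup G) = ℓ ^ a) :
    (P : Subgroup G) ≤ Subgroup.centralizer ((P : Subgroup G) : Set G) := by
  have hcomm : ∀ x y : ↥(P : Subgroup G), x * y = y * x := by
    rcases ha with rfl | rfl
    · rw [pow_one] at hPcard
      haveI : IsCyclic ↥(P : Subgroup G) := isCyclic_of_prime_card hPcard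
      letI := IsCyclic.commGroup (α := ↥(P : Subgroup G))
      intro x y
      exact mul_comm x y
    · exact isMulCommutative_iff.mp (IsPGroup.isMulCommutative_of_card_eq_prime_sq hPcard)
  intro x hx
  rw [Subgroup.mem_centralizer_iff]
  intro y hy
  have := hcomm ⟨y, hy⟩ ⟨x, hx⟩
  exact congrArg Subtype.val this

end Cfsg.Agent.Lib.Lead.SimpleSyl
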