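import Mathlib
import Cfsg.Agent.Lib.Lead.SylowTwoP

/-!
Groups with exactly `k p + 1` Sylow `p`-subgroups, `k < p`, acting faithfully on them:
the Sylow `p`-subgroups have order `p` and intersect trivially.
-/

set_option autoImplicit false
set_option linter.style.haveILetI false
set_option linter.unusedSectionVars false

namespace Cfsg.Agent.Lib.Lead.SylowKP

open scoped Pointwise
open Cfsg.Agent.Lib.Lead.SylowTwoP

universe u

section main
variable {G : Type u} [Group G] [Finite G] {p : ℕ} [hp : Fact p.Prime] {k : ℕ}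

theorem orbit_cardK (hk : k < p) (h15 : Nat.card (Sylow p G) = k * p + 1) (P Q : Sylow p G)
    (hPQ : P ≠ Q) :
    Nat.card (MulAction.orbit (↥(P : Subgroup G)) Q) = p ∧
    Nat.card ↥((P : Subgroup G) ⊓ Q) * p = Nat.card ↥(P : Subgroup G) := by
  have hfin : Finite (Sylow p G) := Nat.finite_of_card_ne_zero (by rw [h15]; omega)
  have h1 : Nat.card (MulAction.orbit (↥(P : Subgroup G)) Q) *
      Nat.card (MulAction.stabilizer (↥(P : Subgroup G)) Q) = Nat.card ↥(P : Subgroup G) := by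
    rw [← Nat.card_prod]
    exact Nat.card_congr (MulAction.orbitProdStabilizerEquivGroup _ Q)
  have h2 : Nat.card (MulAction.stabilizer (↥(P : Subgroup G)) Q) =
      Nat.card ↥((P : Subgroup G) ⊓ Q) := by
    rw [stab_eq]
    exact Nat.card_congr (Subgroup.subgroupOfEquivOfLe inf_le_left).toEquiv
  rw [h2] at h1
  have hsub : MulAction.orbit (↥(P : Subgroup G)) Q ⊆ ({P}ᶜ : Set (Sylow p G)) := by
    rintro R ⟨x, rfl⟩ hR
    apply hPQ
    have hR' : (x : G) • Q = P := hR
    have hxP : (x : G) • P = P := Sylow.smul_eq_iff_mem_normalizer.mpr (Subgroup.le_normalizer x.2)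
    exact (smul_left_cancel (x : G) (hR'.trans hxP.symm)).symm
  have hle : Nat.card (MulAction.orbit (↥(P : Subgroup G)) Q) ≤ k * p := by
    have h3 : ({P}ᶜ : Set (Sylow p G)).ncard = k * p := by
      rw [Set.ncard_compl, Set.ncard_singleton, h15]; omega
    have := Set.ncard_le_ncard hsub (Set.toFinite _)
    rw [h3] at this
    rwa [Nat.card_coe_set_eq]
  obtain ⟨a, ha⟩ := P.2.exists_card_eq
  have hdvd : Nat.card (MulAction.orbit (↥(P : Subgroup G)) Q) ∣ p ^ a := by
    rw [← ha, ← h1]; exact dvd_mul_right _ _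
  obtain ⟨b, hb, hb'⟩ := (Nat.dvd_prime_pow hp.out).mp hdvd
  have hb1 : b = 1 := by
    rcases Nat.lt_or_ge b 2 with hlt | hge
    · interval_cases b
      · exfalso
        rw [hb', pow_zero, one_mul] at h1
        have hle' : (P : Subgroup G) ⊓ Q = P :=
          Subgroup.eq_of_le_of_card_ge inf_le_left h1.ge
        have hPleQ : (P : Subgroup G) ≤ Q := by rw [← hle']; exact inf_le_right
        exact hPQ (Sylow.ext (P.3 Q.2 hPleQ).symm)
      · rfl
    · exfalso
      have h4 : p ^ 2 ≤ p ^ b := Nat.pow_le_pow_right hp.out.pos hge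
      rw [hb'] at hle
      have h5 : p ^ 2 = p * p := sq p
      have h6 : k * p < p * p := Nat.mul_lt_mul_of_pos_right hk hp.out.pos
      omega
  subst hb1
  rw [pow_one] at hb'
  refine ⟨hb', ?_⟩
  rw [hb'] at h1
  rw [← h1, mul_comm]

theorem inf_normalK (hk : k < p) (h15 : Nat.card (Sylow p G) = k * p + 1) (P Q : Sylow p G)
    (hPQ : P ≠ Q) :
    (((P : Subgroup G) ⊓ Q).subgroupOf P).Normal := by
  obtain ⟨-, hA⟩ := orbit_cardK hk h15 P Q hPQ
  apply Subgroup.normal_of_index_eq_minFac_card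
  have h1 := Subgroup.card_mul_index (((P : Subgroup G) ⊓ Q).subgroupOf P)
  have h2 : Nat.card ↥(((P : Subgroup G) ⊓ Q).subgroupOf P) = Nat.card ↥((P : Subgroup G) ⊓ Q) :=
    Nat.card_congr (Subgroup.subgroupOfEquivOfLe inf_le_left).toEquiv
  rw [h2] at h1
  have hpos : 0 < Nat.card ↥((P : Subgroup G) ⊓ Q) := Nat.card_pos
  have hidx : (((P : Subgroup G) ⊓ Q).subgroupOf P).index = p := by
    have : Nat.card ↥((P : Subgroup G) ⊓ Q) * (((P : Subgroup G) ⊓ Q).subgroupOf P).index
        = Nat.card ↥((P : Subgroup G) ⊓ Q) * p := by rw [h1, hA]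
    exact Nat.eq_of_mul_eq_mul_left hpos this
  rw [hidx]
  obtain ⟨a, ha⟩ := P.2.exists_card_eq
  have ha0 : a ≠ 0 := by
    rintro rfl
    rw [pow_zero] at ha
    rw [ha] at hA
    have h5 : p = 1 := Nat.dvd_one.mp (Dvd.intro_left _ hA)
    exact hp.out.ne_one h5
  rw [ha, Nat.pow_minFac ha0, hp.out.minFac_eq]

theorem inf_smulK (hk : k < p) (h15 : Nat.card (Sylow p G) = k * p + 1) (P Q : Sylow p G)
    (hPQ : P ≠ Q) (x : G) (hx : x ∈ (P : Subgroup G)) :
    (P : Subgroup G) ⊓ ((x • Q : Sylow p G) : Subgroup G) = (P : Subgroup G) ⊓ Q := by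
  have hN := inf_normalK hk h15 P Q hPQ
  ext y
  rw [Subgroup.mem_inf, Subgroup.mem_inf, mem_smul_sylow]
  constructor
  · rintro ⟨hy, hy'⟩
    have hz : (⟨x⁻¹ * y * x, Subgroup.mul_mem _ (Subgroup.mul_mem _ (Subgroup.inv_mem _ hx) hy) hx⟩ :
        ↥(P : Subgroup G)) ∈ ((P : Subgroup G) ⊓ Q).subgroupOf P := by
      rw [Subgroup.mem_subgroupOf]
      exact ⟨Subgroup.mul_mem _ (Subgroup.mul_mem _ (Subgroup.inv_mem _ hx) hy) hx, hy'⟩
    have := hN.conj_mem _ hz ⟨x, hx⟩
    rw [Subgroup.mem_subgroupOf] at this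
    have h3 : x * (x⁻¹ * y * x) * x⁻¹ = y := by group
    simp only [Subgroup.coe_mul, Subgroup.coe_inv] at this
    rw [h3] at this
    exact this
  · rintro ⟨hy, hy'⟩
    refine ⟨hy, ?_⟩
    have hz : (⟨y, hy⟩ : ↥(P : Subgroup G)) ∈ ((P : Subgroup G) ⊓ Q).subgroupOf P := by
      rw [Subgroup.mem_subgroupOf]
      exact ⟨hy, hy'⟩
    have := hN.conj_mem _ hz ⟨x⁻¹, Subgroup.inv_mem _ hx⟩
    rw [Subgroup.mem_subgroupOf] at this
    simp only [Subgroup.coe_mul, Subgroup.coe_inv, inv_inv] at this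
    exact this.2

theorem orbit_propsK (hk : k < p) (h15 : Nat.card (Sylow p G) = k * p + 1) (P Q : Sylow p G)
    (hPQ : P ≠ Q) (R : Sylow p G) (hR : R ∈ MulAction.orbit (↥(P : Subgroup G)) Q) :
    R ≠ P ∧ (P : Subgroup G) ⊓ R = (P : Subgroup G) ⊓ Q := by
  obtain ⟨x, rfl⟩ := hR
  refine ⟨?_, inf_smulK hk h15 P Q hPQ x x.2⟩
  intro hR'
  apply hPQ
  have hR'' : (x : G) • Q = P := hR'
  have hxP : (x : G) • P = P := Sylow.smul_eq_iff_mem_normalizer.mpr (Subgroup.le_normalizer x.2)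
  exact (smul_left_cancel (x : G) (hR''.trans hxP.symm)).symm

/-- At most `k` different intersections `R ⊓ S` with the other Sylow subgroups `S`. -/
theorem valsK (hk : k < p) (h15 : Nat.card (Sylow p G) = k * p + 1) (R : Sylow p G)
    (F : Finset (Sylow p G)) (hF : ∀ S ∈ F, R ≠ S)
    (hinj : ∀ S ∈ F, ∀ T ∈ F, (R : Subgroup G) ⊓ S = (R : Subgroup G) ⊓ T → S = T) :
    F.card ≤ k := by
  classical
  have hfin : Finite (Sylow p G) := Nat.finite_of_card_ne_zero (by rw [h15]; omega)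
  haveI : Fintype (Sylow p G) := Fintype.ofFinite _
  obtain ⟨orb, horbdef⟩ : ∃ orb : Sylow p G → Finset (Sylow p G), ∀ S T,
      T ∈ orb S ↔ T ∈ MulAction.orbit (↥(R : Subgroup G)) S :=
    ⟨fun S => Finset.univ.filter (fun T => T ∈ MulAction.orbit (↥(R : Subgroup G)) S),
      fun S T => by simp⟩
  have horb : ∀ S ∈ F, (orb S).card = p := by
    intro S hS
    have h1 := (orbit_cardK hk h15 R S (hF S hS)).1
    refine Eq.trans ?_ h1
    rw [Nat.card_coe_set_eq, ← Set.ncard_coe_finset]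
    congr 1
    ext T
    exact horbdef S T
  have hdisj : ∀ S ∈ F, ∀ T ∈ F, S ≠ T → Disjoint (orb S) (orb T) := by
    intro S hS T hT hST
    rw [Finset.disjoint_left]
    intro U hU hU'
    rw [horbdef] at hU hU'
    apply hST
    apply hinj S hS T hT
    exact ((orbit_propsK hk h15 R S (hF S hS) U hU).2.symm.trans
      (orbit_propsK hk h15 R T (hF T hT) U hU').2)
  have hcard := Finset.card_biUnion hdisj
  have hsub : F.biUnion orb ⊆ Finset.univ.erase R := by
    intro U hU
    rw [Finset.mem_biUnion] at hU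
    obtain ⟨S, hS, hU⟩ := hU
    rw [horbdef] at hU
    rw [Finset.mem_erase]
    exact ⟨(orbit_propsK hk h15 R S (hF S hS) U hU).1, Finset.mem_univ _⟩
  have hle := Finset.card_le_card hsub
  rw [hcard, Finset.sum_congr rfl horb, Finset.sum_const, smul_eq_mul,
    Finset.card_erase_of_mem (Finset.mem_univ _), Finset.card_univ, ← Nat.card_eq_fintype_card,
    h15] at hle
  have h2 : F.card * p ≤ k * p := by omega
  exact Nat.le_of_mul_le_mul_right h2 hp.out.pos

theorem const_infK (hk : k < p) (h15 : Nat.card (Sylow p G) = k * p + 1) (P Q Q' : Sylow p G)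
    (hQ : P ≠ Q) (hQ' : P ≠ Q') :
    (P : Subgroup G) ⊓ Q = (P : Subgroup G) ⊓ Q' := by
  classical
  by_contra hne
  have hfin : Finite (Sylow p G) := Nat.finite_of_card_ne_zero (by rw [h15]; omega)
  haveI : Fintype (Sylow p G) := Fintype.ofFinite _
  have hidx : ∀ S T : Sylow p G, S ≠ T →
      Nat.card ↥((S : Subgroup G) ⊓ T) * p = Nat.card ↥(P : Subgroup G) := by
    intro S T h
    rw [(orbit_cardK hk h15 S T h).2, card_sylow_eq S P]
  have hceq : ∀ S T S' T' : Sylow p G, S ≠ T → S' ≠ T' →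
      Nat.card ↥((S : Subgroup G) ⊓ T) = Nat.card ↥((S' : Subgroup G) ⊓ T') := by
    intro S T S' T' h h'
    exact Nat.eq_of_mul_eq_mul_right hp.out.pos ((hidx S T h).trans (hidx S' T' h').symm)
  have hDR : ¬ (P : Subgroup G) ⊓ Q ≤ (Q' : Subgroup G) := by
    intro h
    apply hne
    exact Subgroup.eq_of_le_of_card_ge (le_inf inf_le_left h) (hceq P Q' P Q hQ' hQ).le
  obtain ⟨orbF, horbdef⟩ : ∃ orbF : Finset (Sylow p G), ∀ T,
      T ∈ orbF ↔ T ∈ MulAction.orbit (↥(P : Subgroup G)) Q :=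
    ⟨Finset.univ.filter (fun T => T ∈ MulAction.orbit (↥(P : Subgroup G)) Q), fun T => by simp⟩
  have horbF : orbF.card = p := by
    have h1 := (orbit_cardK hk h15 P Q hQ).1
    refine Eq.trans ?_ h1
    rw [Nat.card_coe_set_eq, ← Set.ncard_coe_finset]
    congr 1
    ext T
    exact horbdef T
  have hPn : P ∉ orbF := by
    rw [horbdef]
    intro h
    exact (orbit_propsK hk h15 P Q hQ P h).1 rfl
  have hFc : (insert P orbF).card = p + 1 := by rw [Finset.card_insert_of_notMem hPn, horbF]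
  have hFD : ∀ S ∈ insert P orbF, (P : Subgroup G) ⊓ Q ≤ (S : Subgroup G) := by
    intro S hS
    rcases Finset.mem_insert.mp hS with rfl | hS
    · exact inf_le_left
    · rw [horbdef] at hS
      rw [← (orbit_propsK hk h15 P Q hQ S hS).2]
      exact inf_le_right
  have hFR : ∀ S ∈ insert P orbF, Q' ≠ S := by
    intro S hS h
    exact hDR (h ▸ hFD S hS)
  have hpair : ∀ S ∈ insert P orbF, ∀ T ∈ insert P orbF, S ≠ T →
      (S : Subgroup G) ⊓ T = (P : Subgroup G) ⊓ Q := by
    intro S hS T hT hST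
    symm
    exact Subgroup.eq_of_le_of_card_ge (le_inf (hFD S hS) (hFD T hT)) (hceq S T P Q hST hQ).le
  have hinj : ∀ S ∈ insert P orbF, ∀ T ∈ insert P orbF,
      (Q' : Subgroup G) ⊓ S = (Q' : Subgroup G) ⊓ T → S = T := by
    intro S hS T hT h
    by_contra hST
    apply hDR
    have h1 : (Q' : Subgroup G) ⊓ S ≤ (P : Subgroup G) ⊓ Q := by
      rw [← hpair S hS T hT hST]
      exact le_inf inf_le_right (h ▸ inf_le_right)
    have h2 : (Q' : Subgroup G) ⊓ S = (P : Subgroup G) ⊓ Q :=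
      Subgroup.eq_of_le_of_card_ge h1 (hceq Q' S P Q (hFR S hS) hQ).ge
    rw [← h2]
    exact inf_le_left
  have := valsK hk h15 Q' (insert P orbF) hFR hinj
  omega

/-- With `k p + 1` Sylow `p`-subgroups (`k < p`) and a faithful action on them, the Sylow
`p`-subgroups have order `p` and pairwise trivial intersection. -/
theorem tameK (hk : k < p) (h15 : Nat.card (Sylow p G) = k * p + 1) (hk0 : 0 < k)
    (hF : ∀ g : G, (∀ R : Sylow p G, g • R = R) → g = 1) :
    (∀ P : Sylow p G, Nat.card ↥(P : Subgroup G) = p) ∧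
    (∀ P Q : Sylow p G, P ≠ Q → (P : Subgroup G) ⊓ Q = ⊥) := by
  have hfin : Finite (Sylow p G) := Nat.finite_of_card_ne_zero (by rw [h15]; omega)
  have hnt : Nontrivial (Sylow p G) := by
    rw [← Finite.one_lt_card_iff_nontrivial, h15]
    have := Nat.mul_pos hk0 hp.out.pos
    omega
  have hbot : ∀ P Q : Sylow p G, P ≠ Q → (P : Subgroup G) ⊓ Q = ⊥ := by
    intro P Q hPQ
    rw [eq_bot_iff]
    intro x hx
    rw [Subgroup.mem_bot]
    apply hF
    intro R
    rw [Sylow.smul_eq_iff_mem_normalizer]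
    apply Subgroup.le_normalizer
    by_cases hR : P = R
    · rw [← hR]; exact hx.1
    · have := const_infK hk h15 P Q R hPQ hR
      rw [this] at hx
      exact hx.2
  have hcard : ∀ P : Sylow p G, Nat.card ↥(P : Subgroup G) = p := by
    intro P
    obtain ⟨Q, hQ⟩ := exists_ne P
    have h1 := (orbit_cardK hk h15 P Q hQ.symm).2
    rw [hbot P Q hQ.symm] at h1
    simpa using h1.symm
  exact ⟨hcard, hbot⟩

end main

end Cfsg.Agent.Lib.Lead.SylowKP
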