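import Mathlib
import Cfsg.Agent.Lib.Lead.SimpleSyl
import Cfsg.Agent.Lib.Lead.SylowKP

/-!
Fixed points of involutions on the set of Sylow subgroups of a simple group.
-/

set_option autoImplicit false
set_option linter.style.haveILetI false
set_option linter.unusedSectionVars false
set_option linter.unusedVariables false

namespace Cfsg.Agent.Lib.Lead.SimpleSyl

open scoped Pointwise
open Cfsg.Agent.Lib.Lead.SylowTwoP Cfsg.Agent.Lib.Lead.SylowKP Cfsg.Agent.Lib.Helper8

universe u

variable {G : Type u} [Group G]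

/-- An element of prime power order (for a prime `s ≠ p`) normalizing but not centralizing an
abelian Sylow `p`-subgroup, when `N(P) ≰ C(P)`. -/
theorem exists_elt_of_not_le [Finite G] (p : ℕ) [Fact p.Prime] (P : Sylow p G)
    (hab : (P : Subgroup G) ≤ Subgroup.centralizer ((P : Subgroup G) : Set G))
    (hN : ¬ Subgroup.normalizer ((P : Subgroup G) : Set G) ≤
      Subgroup.centralizer ((P : Subgroup G) : Set G)) :
    ∃ (g : G) (s e : ℕ), s.Prime ∧ s ≠ p ∧ e ≠ 0 ∧
      g ∈ Subgroup.normalizer ((P : Subgroup G) : Set G) ∧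
      g ∉ Subgroup.centralizer ((P : Subgroup G) : Set G) ∧ orderOf g = s ^ e := by
  classical
  have hex : ∃ n : ℕ, ∃ g : G, g ∈ Subgroup.normalizer ((P : Subgroup G) : Set G) ∧
      g ∉ Subgroup.centralizer ((P : Subgroup G) : Set G) ∧ orderOf g = n := by
    obtain ⟨g, hgN, hgC⟩ := SetLike.not_le_iff_exists.mp hN
    exact ⟨_, g, hgN, hgC, rfl⟩
  obtain ⟨g, hgN, hgC, hgn⟩ := Nat.find_spec hex
  have hmin : ∀ h : G, h ∈ Subgroup.normalizer ((P : Subgroup G) : Set G) →
      orderOf h < orderOf g → h ∈ Subgroup.centralizer ((P : Subgroup G) : Set G) := by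
    intro h hhN hlt
    by_contra hhC
    have := Nat.find_min' hex ⟨h, hhN, hhC, rfl⟩
    omega
  have hg1 : g ≠ 1 := by rintro rfl; exact hgC (Subgroup.one_mem _)
  have hn0 : orderOf g ≠ 0 := (orderOf_pos g).ne'
  have hn1 : orderOf g ≠ 1 := by rw [Ne, orderOf_eq_one_iff]; exact hg1
  obtain ⟨s, hs⟩ : ∃ s : ℕ, s = (orderOf g).minFac := ⟨_, rfl⟩
  have hsp : s.Prime := by rw [hs]; exact Nat.minFac_prime hn1
  have hsdvd : s ∣ orderOf g := by rw [hs]; exact Nat.minFac_dvd _
  obtain ⟨e, m, hsm, hnem⟩ := Nat.exists_eq_pow_mul_and_not_dvd hn0 s hsp.ne_one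
  have he : e ≠ 0 := by
    rintro rfl
    apply hsm
    rw [hnem, pow_zero, one_mul] at hsdvd
    exact hsdvd
  have hm0 : m ≠ 0 := by rintro rfl; rw [mul_zero] at hnem; exact hn0 hnem
  have hse : 2 ≤ s ^ e := by
    calc 2 ≤ s := hsp.two_le
      _ = s ^ 1 := (pow_one s).symm
      _ ≤ s ^ e := Nat.pow_le_pow_right hsp.pos (Nat.one_le_iff_ne_zero.mpr he)
  have hm1 : m = 1 := by
    by_contra hm
    have hm2 : 2 ≤ m := by omega
    have ho1 : orderOf (g ^ s ^ e) ≤ m := by
      apply orderOf_le_of_pow_eq_one (by omega)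
      rw [← pow_mul, ← hnem, pow_orderOf_eq_one]
    have ho2 : orderOf (g ^ m) ≤ s ^ e := by
      apply orderOf_le_of_pow_eq_one (by omega)
      rw [← pow_mul, mul_comm, ← hnem, pow_orderOf_eq_one]
    have hc1 := hmin _ (Subgroup.pow_mem _ hgN (s ^ e)) (by rw [hnem]; nlinarith)
    have hc2 := hmin _ (Subgroup.pow_mem _ hgN m) (by rw [hnem]; nlinarith)
    have hcop : Nat.Coprime (s ^ e) m :=
      Nat.Coprime.pow_left e ((Nat.Prime.coprime_iff_not_dvd hsp).mpr hsm)
    exact hgC (mem_of_pow_mem_coprime _ g _ _ hcop hc1 hc2)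
  rw [hm1, mul_one] at hnem
  have hpow : g ^ s ^ e = 1 := by rw [← hnem, pow_orderOf_eq_one]
  have hsne : s ≠ p := by
    rintro rfl
    exact hgC (hab (pelt_mem g e hpow P hgN))
  exact ⟨g, s, e, hsp, hsne, he, hgN, hgC, hnem⟩

/-- The set of Sylow `p`-subgroups normalised by `g`. -/
def Fx (p : ℕ) (g : G) : Set (Sylow p G) := {R | g • R = R}

theorem mem_Fx (p : ℕ) (g : G) (R : Sylow p G) : R ∈ Fx p g ↔ g • R = R := Iff.rfl

/-- A nonabelian simple group has no nontrivial homomorphism to `ℤˣ`. -/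
theorem sign_trivial [Finite G] [IsSimpleGroup G] (hnc : ¬ IsMulCommutative G) (f : G →* ℤˣ)
    (g : G) : f g = 1 := by
  rcases (MonoidHom.normal_ker f).eq_bot_or_eq_top with h | h
  · exfalso
    apply hnc
    rw [isMulCommutative_iff]
    intro a b
    have hinj : Function.Injective f := (MonoidHom.ker_eq_bot_iff f).mp h
    apply hinj
    rw [map_mul, map_mul, mul_comm]
  · have : g ∈ f.ker := by rw [h]; exact Subgroup.mem_top g
    exact MonoidHom.mem_ker.mp this

/-- An involution of a nonabelian simple group acts as an even permutation of the Sylow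
`p`-subgroups: it normalises `≡ n_p (mod 4)` of them. -/
theorem fx_invol [Finite G] [IsSimpleGroup G] (hnc : ¬ IsMulCommutative G) (p : ℕ)
    [Fact p.Prime] (t : G) (ht2 : t ^ 2 = 1) :
    (Fx p t).ncard % 4 = Nat.card (Sylow p G) % 4 := by
  classical
  haveI : Fintype (Sylow p G) := Fintype.ofFinite _
  obtain ⟨τ, hτ⟩ : ∃ τ : Equiv.Perm (Sylow p G), τ = MulAction.toPerm t := ⟨_, rfl⟩
  have hτapp : ∀ R, τ R = t • R := by intro R; rw [hτ]; rfl
  have hfixc : (Fx p t).ncard + τ.support.card = Nat.card (Sylow p G) := by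
    have h1 := Finset.card_add_card_compl τ.support
    rw [← Nat.card_eq_fintype_card] at h1
    have h2 : (Fx p t).ncard = (τ.supportᶜ).card := by
      rw [← Set.ncard_coe_finset]
      congr 1
      ext R
      simp [Fx, hτapp]
    rw [h2]
    omega
  by_cases h1 : τ = 1
  · have : τ.support.card = 0 := by rw [h1]; simp
    omega
  · have hτo : orderOf τ = 2 := by
      apply orderOf_eq_prime
      · ext R
        rw [pow_two, Equiv.Perm.mul_apply, hτapp, hτapp, ← mul_smul, ← pow_two, ht2, one_smul]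
        rfl
      · exact h1
    obtain ⟨n, hn⟩ := Equiv.Perm.cycleType_prime_order (σ := τ)
      (by rw [hτo]; exact Nat.prime_two)
    rw [hτo] at hn
    have hsum : τ.cycleType.sum = τ.support.card := Equiv.Perm.sum_cycleType τ
    rw [hn, Multiset.sum_replicate, smul_eq_mul] at hsum
    have hsign : Equiv.Perm.sign τ = 1 := by
      have h1 := sign_trivial hnc (Equiv.Perm.sign.comp (MulAction.toPermHom G (Sylow p G))) t
      rw [MonoidHom.comp_apply] at h1
      have h2 : (MulAction.toPermHom G (Sylow p G)) t = τ := by rw [hτ]; rfl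
      rw [h2] at h1
      exact h1
    rw [Equiv.Perm.sign_of_cycleType, hn, Multiset.sum_replicate, Multiset.card_replicate,
      smul_eq_mul] at hsign
    have heven : Even ((n + 1) * 2 + (n + 1)) :=
      (neg_one_pow_eq_one_iff_even (R := ℤˣ) (by decide)).mp hsign
    have heven' : Even (n + 1) := by
      rcases heven with ⟨r, hr⟩
      exact ⟨r - (n + 1), by omega⟩
    rcases heven' with ⟨r, hr⟩
    omega

/-- Distinct Sylow subgroups of prime order meet trivially. -/
theorem inf_eq_bot_of_card_prime [Finite G] (p : ℕ) [Fact p.Prime] (P Q : Sylow p G)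
    (hPc : Nat.card ↥(P : Subgroup G) = p) (hPQ : P ≠ Q) : (P : Subgroup G) ⊓ Q = ⊥ := by
  have hp : p.Prime := Fact.out
  have h1 : Nat.card ↥((P : Subgroup G) ⊓ Q) ∣ p :=
    (Subgroup.card_dvd_of_le (inf_le_left : (P : Subgroup G) ⊓ Q ≤ P)).trans (dvd_of_eq hPc)
  rcases (Nat.dvd_prime hp).mp h1 with h | h
  · exact Subgroup.card_eq_one.mp h
  · exfalso
    apply hPQ
    have h2 : (P : Subgroup G) ⊓ Q = P :=
      Subgroup.eq_of_le_of_card_ge inf_le_left (by rw [h, hPc])
    have h3 : (P : Subgroup G) ≤ Q := by rw [← h2]; exact inf_le_right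
    apply Sylow.ext
    exact Subgroup.eq_of_le_of_card_ge h3 (by rw [card_sylow_eq Q P])

/-- An involution normalising but not centralising a Sylow subgroup of prime order inverts it. -/
theorem inverts_of_not_centralizes [Finite G] (p : ℕ) [Fact p.Prime] (P : Sylow p G)
    (hPc : Nat.card ↥(P : Subgroup G) = p) (t : G) (ht2 : t ^ 2 = 1)
    (htN : t ∈ Subgroup.normalizer ((P : Subgroup G) : Set G))
    (htC : t ∉ Subgroup.centralizer ((P : Subgroup G) : Set G)) :
    ∀ y ∈ (P : Subgroup G), t * y * t⁻¹ = y⁻¹ := by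
  have hp : p.Prime := Fact.out
  have hab := sylow_le_centralizer p 1 (Or.inl rfl) P (by rw [hPc, pow_one])
  have htinv : t⁻¹ = t := by
    rw [inv_eq_iff_mul_eq_one, ← pow_two, ht2]
  have hK : (P : Subgroup G) ⊓ Subgroup.centralizer ({t} : Set G) = ⊥ := by
    have h1 : Nat.card ↥((P : Subgroup G) ⊓ Subgroup.centralizer ({t} : Set G)) ∣ p :=
      (Subgroup.card_dvd_of_le (inf_le_left :
        (P : Subgroup G) ⊓ Subgroup.centralizer ({t} : Set G) ≤ P)).trans (dvd_of_eq hPc)
    rcases (Nat.dvd_prime hp).mp h1 with h | h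
    · exact Subgroup.card_eq_one.mp h
    · exfalso
      have h2 : (P : Subgroup G) ⊓ Subgroup.centralizer ({t} : Set G) = P :=
        Subgroup.eq_of_le_of_card_ge inf_le_left (by rw [h, hPc])
      apply htC
      rw [Subgroup.mem_centralizer_iff]
      intro u hu
      have hu' : u ∈ (P : Subgroup G) := hu
      rw [← h2] at hu'
      have h4 := (Subgroup.mem_centralizer_iff.mp hu'.2) t (Set.mem_singleton t)
      exact h4.symm
  intro y hy
  have hty : t * y * t⁻¹ ∈ (P : Subgroup G) := (Subgroup.mem_normalizer_iff.mp htN y).mp hy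
  have hcomm : y * (t * y * t⁻¹) = (t * y * t⁻¹) * y :=
    ((Subgroup.mem_centralizer_iff.mp (hab hty)) y hy)
  have hz : y * (t * y * t⁻¹) ∈ (P : Subgroup G) ⊓ Subgroup.centralizer ({t} : Set G) := by
    refine Subgroup.mem_inf.mpr ⟨Subgroup.mul_mem _ hy hty, ?_⟩
    rw [Subgroup.mem_centralizer_iff]
    intro h hh
    rw [Set.mem_singleton_iff] at hh
    subst hh
    have e1 : h * (y * (h * y * h⁻¹)) = (h * y * h⁻¹) * (h * h * y * h⁻¹) := by group
    have e2 : h * h = 1 := by rw [← pow_two]; exact ht2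
    rw [e1, e2, one_mul, htinv]
    rw [htinv] at hcomm
    rw [hcomm, mul_assoc (h * y * h) y h]
  rw [hK, Subgroup.mem_bot] at hz
  exact (eq_inv_of_mul_eq_one_right hz)

/-- A fixed point of an inverting involution is the only one in its `P`-orbit. -/
theorem fx_orbit_unique [Finite G] (p : ℕ) [Fact p.Prime] (hp2 : p ≠ 2) (P : Sylow p G)
    (hPc : Nat.card ↥(P : Subgroup G) = p) (t : G) (ht2 : t ^ 2 = 1)
    (htN : t ∈ Subgroup.normalizer ((P : Subgroup G) : Set G))
    (htC : t ∉ Subgroup.centralizer ((P : Subgroup G) : Set G))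
    (Q : Sylow p G) (hQ : Q ≠ P) (htQ : t • Q = Q) (x : G) (hx : x ∈ (P : Subgroup G))
    (htx : t • (x • Q) = x • Q) : x = 1 := by
  have hp : p.Prime := Fact.out
  have hinv := inverts_of_not_centralizes p P hPc t ht2 htN htC x hx
  have h1 : (x⁻¹ * t * x) • Q = Q := by
    rw [mul_smul, mul_smul, htx, ← mul_smul, inv_mul_cancel, one_smul]
  have h2 : t⁻¹ • Q = Q := by
    rw [inv_smul_eq_iff, htQ]
  have h3 : (x⁻¹ * t * x * t⁻¹) • Q = Q := by
    rw [mul_smul, h2, h1]
  have h4 : x⁻¹ * t * x * t⁻¹ = x⁻¹ * x⁻¹ := by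
    calc x⁻¹ * t * x * t⁻¹ = x⁻¹ * (t * x * t⁻¹) := by group
      _ = x⁻¹ * x⁻¹ := by rw [hinv]
  rw [h4] at h3
  have h5 : x⁻¹ * x⁻¹ ∈ (P : Subgroup G) ⊓ Subgroup.normalizer ((Q : Subgroup G) : Set G) :=
    ⟨Subgroup.mul_mem _ (Subgroup.inv_mem _ hx) (Subgroup.inv_mem _ hx),
      Sylow.smul_eq_iff_mem_normalizer.mp h3⟩
  have h6 : (P : Subgroup G) ⊓ Subgroup.normalizer ((Q : Subgroup G) : Set G) =
      (P : Subgroup G) ⊓ Q := P.2.inf_normalizer_sylow Q
  rw [h6, inf_eq_bot_of_card_prime p P Q hPc (Ne.symm hQ), Subgroup.mem_bot] at h5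
  have hx2 : x ^ 2 = 1 := by
    have : (x ^ 2)⁻¹ = 1 := by rw [pow_two, mul_inv_rev]; exact h5
    exact inv_eq_one.mp this
  have hxp : x ^ p = 1 := by
    have h7 : (⟨x, hx⟩ : ↥(P : Subgroup G)) ^ Nat.card ↥(P : Subgroup G) = 1 := pow_card_eq_one'
    rw [hPc] at h7
    exact congrArg Subtype.val h7
  have hcop : Nat.Coprime 2 p := (Nat.coprime_primes Nat.prime_two hp).mpr (Ne.symm hp2)
  have := mem_of_pow_mem_coprime (⊥ : Subgroup G) x 2 p hcop (by rw [hx2]; exact Subgroup.one_mem _)
    (by rw [hxp]; exact Subgroup.one_mem _)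
  exact Subgroup.mem_bot.mp this

/-- If `n_p = p + 1` with Sylow `p`-subgroups of odd prime order `p`, and an involution
normalises but does not centralise a Sylow `p`-subgroup, then `p ≡ 1 (mod 4)`. -/
theorem invol_normalizer_mod_four [Finite G] [IsSimpleGroup G] (hnc : ¬ IsMulCommutative G)
    (p : ℕ) [Fact p.Prime] (hp2 : p ≠ 2) (hn : Nat.card (Sylow p G) = p + 1) (P : Sylow p G)
    (hPc : Nat.card ↥(P : Subgroup G) = p) (t : G) (ht2 : t ^ 2 = 1)
    (htN : t ∈ Subgroup.normalizer ((P : Subgroup G) : Set G))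
    (htC : t ∉ Subgroup.centralizer ((P : Subgroup G) : Set G)) : p % 4 = 1 := by
  classical
  have hp : p.Prime := Fact.out
  have hpodd : p % 2 = 1 := by
    rcases hp.eq_two_or_odd with h | h
    · exact absurd h hp2
    · exact h
  have h4 := fx_invol hnc p t ht2
  rw [hn] at h4
  have hPfx : P ∈ Fx p t := Sylow.smul_eq_iff_mem_normalizer.mpr htN
  have hfin : (Fx p t).Finite := Set.toFinite _
  have hpos : 1 ≤ (Fx p t).ncard := by
    rw [Nat.succ_le_iff, Set.ncard_pos hfin]
    exact ⟨P, hPfx⟩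
  have hle : (Fx p t).ncard ≤ 2 := by
    by_cases hex : ∃ Q, Q ∈ Fx p t ∧ Q ≠ P
    · obtain ⟨Q, hQfx, hQP⟩ := hex
      have hsub : Fx p t ⊆ {P, Q} := by
        intro Q' hQ'
        by_cases hQ'P : Q' = P
        · left; exact hQ'P
        · right
          -- `Q'` lies in the `P`-orbit of `Q`
          have horb : MulAction.orbit (↥(P : Subgroup G)) Q = {R : Sylow p G | R ≠ P} := by
            apply Set.eq_of_subset_of_ncard_le
            · intro R hR
              exact (orbit_propsK (k := 1) hp.one_lt (by rw [hn, one_mul]) P Q (Ne.symm hQP) R hR).1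
            · have h1 := (orbit_cardK (k := 1) hp.one_lt (by rw [hn, one_mul]) P Q (Ne.symm hQP)).1
              rw [Nat.card_coe_set_eq] at h1
              rw [h1]
              have h2 : ({R : Sylow p G | R ≠ P}).ncard = Nat.card (Sylow p G) - 1 := by
                have : {R : Sylow p G | R ≠ P} = (Set.univ : Set (Sylow p G)) \ {P} := by
                  ext R; simp
                rw [this, Set.ncard_sdiff_singleton_of_mem (Set.mem_univ P), Set.ncard_univ]
              rw [h2, hn]
              omega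
            · exact Set.toFinite _
          have hQ'orb : Q' ∈ MulAction.orbit (↥(P : Subgroup G)) Q := by
            rw [horb]; exact hQ'P
          obtain ⟨x, hx⟩ := hQ'orb
          have hx' : (x : G) • Q = Q' := hx
          have hx1 : (x : G) = 1 := by
            apply fx_orbit_unique p hp2 P hPc t ht2 htN htC Q hQP hQfx (x : G) x.2
            rw [hx']
            exact hQ'
          rw [hx1, one_smul] at hx'
          exact hx'.symm
      calc (Fx p t).ncard ≤ ({P, Q} : Set (Sylow p G)).ncard :=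
            Set.ncard_le_ncard hsub (Set.toFinite _)
        _ ≤ 2 := Set.ncard_insert_le _ _ |>.trans (by rw [Set.ncard_singleton])
    · push Not at hex
      have hsub : Fx p t ⊆ {P} := by
        intro Q hQ
        exact hex Q hQ
      calc (Fx p t).ncard ≤ ({P} : Set (Sylow p G)).ncard :=
            Set.ncard_le_ncard hsub (Set.toFinite _)
        _ ≤ 2 := by rw [Set.ncard_singleton]; norm_num
  omega

end Cfsg.Agent.Lib.Lead.SimpleSyl
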