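import Mathlib
import Cfsg.Agent.Lib.Lead.SimpleSylB

/-!
Counting tools for simple groups: fixed points on Sylow subgroups and on conjugacy classes,
a class-counting formula and small conjugacy classes of involutions.
-/

set_option autoImplicit false
set_option linter.style.haveILetI false
set_option linter.unusedSectionVars false
set_option linter.unusedVariables false

namespace Cfsg.Agent.Lib.Lead.SimpleSyl

open scoped Pointwise
open Cfsg.Agent.Lib.Lead.SylowTwoP Cfsg.Agent.Lib.Lead.SylowKP Cfsg.Agent.Lib.Helper8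

universe u v

variable {G : Type u} [Group G]

theorem relIndex_mul_card_of_le [Finite G] {H K : Subgroup G} (h : H ≤ K) :
    H.relIndex K * Nat.card ↥H = Nat.card ↥K := by
  have h1 := Subgroup.index_mul_card (H.subgroupOf K)
  have h2 : Nat.card ↥(H.subgroupOf K) = Nat.card ↥H :=
    Nat.card_congr (Subgroup.subgroupOfEquivOfLe h).toEquiv
  rw [h2] at h1
  exact h1

/-- Orbit counting modulo `q` for a `q`-subgroup acting (through `act`) on an invariant set. -/
theorem gen_modEq {α : Type v} [Finite α] (act : G → α → α) (h1 : ∀ a, act 1 a = a)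
    (hmul : ∀ g h a, act (g * h) a = act g (act h a)) (q : ℕ) [Fact q.Prime]
    (H : Subgroup G) (hH : IsPGroup q H) (S : Set α) (hS : ∀ x ∈ H, ∀ a ∈ S, act x a ∈ S) :
    S.ncard ≡ {a | a ∈ S ∧ ∀ x ∈ H, act x a = a}.ncard [MOD q] := by
  classical
  letI actI : MulAction ↥H ↥S :=
    { smul := fun x a => ⟨act (x : G) (a : α), hS x x.2 a a.2⟩
      one_smul := fun a => Subtype.ext (h1 (a : α))
      mul_smul := fun x y a => Subtype.ext (hmul (x : G) (y : G) (a : α)) }
  have h1 := hH.card_modEq_card_fixedPoints (↥S)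
  rw [Nat.card_coe_set_eq] at h1
  have h2 : Nat.card (MulAction.fixedPoints ↥H ↥S) =
      {a | a ∈ S ∧ ∀ x ∈ H, act x a = a}.ncard := by
    rw [← Nat.card_coe_set_eq]
    refine Nat.card_congr ⟨fun a => ⟨((a : ↥S) : α), a.1.2, fun x hx => ?_⟩,
      fun a => ⟨⟨a.1, a.2.1⟩, fun x => ?_⟩, fun a => rfl, fun a => rfl⟩
    · have := a.2 ⟨x, hx⟩
      exact congrArg Subtype.val this
    · exact Subtype.ext (a.2.2 x x.2)
  rw [h2] at h1
  exact h1

/-- Orbit counting modulo `q` for an element of `q`-power order. -/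
theorem gen_modEq_elt {α : Type v} [Finite α] (act : G → α → α) (h1 : ∀ a, act 1 a = a)
    (hmul : ∀ g h a, act (g * h) a = act g (act h a)) (q : ℕ) [Fact q.Prime]
    (g : G) (n : ℕ) (hg : g ^ q ^ n = 1) (S : Set α) (hS : ∀ a ∈ S, act g a ∈ S) :
    S.ncard ≡ {a | a ∈ S ∧ act g a = a}.ncard [MOD q] := by
  have hpow : ∀ x ∈ Subgroup.zpowers g, ∃ m : ℕ, g ^ m = x := by
    intro x hx
    have hfo : IsOfFinOrder g := by
      rw [isOfFinOrder_iff_pow_eq_one]
      exact ⟨q ^ n, pow_pos (Fact.out : q.Prime).pos n, hg⟩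
    exact (Submonoid.mem_powers_iff x g).mp (hfo.mem_powers_iff_mem_zpowers.mpr hx)
  have h2 := gen_modEq act h1 hmul q (Subgroup.zpowers g) (isPGroup_zpowers_of_pow q g n hg) S (by
    intro x hx a ha
    obtain ⟨m, rfl⟩ := hpow x hx
    induction m with
    | zero => rw [pow_zero, h1]; exact ha
    | succ m ih =>
      rw [pow_succ', hmul]
      exact hS _ (ih (Subgroup.pow_mem _ (Subgroup.mem_zpowers g) m)))
  have h3 : {a | a ∈ S ∧ ∀ x ∈ Subgroup.zpowers g, act x a = a} = {a | a ∈ S ∧ act g a = a} := by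
    ext a
    constructor
    · rintro ⟨ha, hfix⟩
      exact ⟨ha, hfix g (Subgroup.mem_zpowers g)⟩
    · rintro ⟨ha, hfix⟩
      refine ⟨ha, fun x hx => ?_⟩
      obtain ⟨m, rfl⟩ := hpow x hx
      induction m with
      | zero => rw [pow_zero, h1]
      | succ m ih =>
        rw [pow_succ', hmul, ih (Subgroup.pow_mem _ (Subgroup.mem_zpowers g) m), hfix]
  rw [h3] at h2
  exact h2

/-- Orbit counting for an element of `q`-power order acting on Sylow subgroups. -/
theorem syl_modEq_elt [Finite G] (p q : ℕ) [Fact p.Prime] [Fact q.Prime] (g : G) (n : ℕ)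
    (hg : g ^ q ^ n = 1) (S : Set (Sylow p G)) (hS : ∀ R ∈ S, g • R ∈ S) :
    S.ncard ≡ {R | R ∈ S ∧ g • R = R}.ncard [MOD q] :=
  gen_modEq_elt (fun (x : G) (R : Sylow p G) => x • R) (fun R => one_smul G R)
    (fun x y R => mul_smul x y R) q g n hg S hS

/-- Orbit counting for an element of `q`-power order acting by conjugation. -/
theorem conj_modEq_elt [Finite G] (q : ℕ) [Fact q.Prime] (g : G) (n : ℕ)
    (hg : g ^ q ^ n = 1) (S : Set G) (hS : ∀ a ∈ S, g * a * g⁻¹ ∈ S) :
    S.ncard ≡ {a | a ∈ S ∧ g * a * g⁻¹ = a}.ncard [MOD q] :=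
  gen_modEq_elt (fun (x : G) (a : G) => x * a * x⁻¹) (fun a => by simp)
    (fun x y a => by simp [mul_assoc]) q g n hg S hS

/-- A `P`-invariant set of Sylow `p`-subgroups containing `P` has size `≡ 1 mod p`. -/
theorem card_inv_mem [Finite G] (p : ℕ) [Fact p.Prime] (P : Sylow p G) (S : Set (Sylow p G))
    (hS : ∀ x ∈ (P : Subgroup G), ∀ R ∈ S, x • R ∈ S) (hP : P ∈ S) : S.ncard % p = 1 := by
  have hp : p.Prime := Fact.out
  have h1 := gen_modEq (fun (x : G) (R : Sylow p G) => x • R) (fun R => one_smul G R)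
    (fun x y R => mul_smul x y R) p (P : Subgroup G) P.2 S hS
  have h2 : {R | R ∈ S ∧ ∀ x ∈ (P : Subgroup G), x • R = R} = {P} := by
    ext R
    rw [Set.mem_singleton_iff]
    constructor
    · rintro ⟨-, hfix⟩
      symm
      apply sylow_le_of_le_normalizer
      intro x hx
      exact Sylow.smul_eq_iff_mem_normalizer.mp (hfix x hx)
    · rintro rfl
      exact ⟨hP, fun x hx => Sylow.smul_eq_iff_mem_normalizer.mpr (Subgroup.le_normalizer hx)⟩
  rw [h2, Set.ncard_singleton] at h1
  have h3 : S.ncard % p = 1 % p := h1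
  rw [h3, Nat.mod_eq_of_lt hp.one_lt]

/-- An element centralizing a Sylow `p`-subgroup normalizes `≡ 1 mod p` Sylow `p`-subgroups. -/
theorem fx_cent_mod [Finite G] (p : ℕ) [Fact p.Prime] (P : Sylow p G) (g : G)
    (hg : g ∈ Subgroup.centralizer ((P : Subgroup G) : Set G)) : (Fx p g).ncard % p = 1 := by
  apply card_inv_mem p P
  · intro x hx R hR
    rw [mem_Fx] at hR ⊢
    have hc : x * g = g * x := Subgroup.mem_centralizer_iff.mp hg x hx
    rw [← mul_smul, ← hc, mul_smul, hR]
  · exact Sylow.smul_eq_iff_mem_normalizer.mpr (Subgroup.centralizer_le_normalizer _ hg)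

/-- An element of `r`-power order normalizes `≡ n_p mod r` Sylow `p`-subgroups. -/
theorem fx_prime_modEq [Finite G] (p r : ℕ) [Fact p.Prime] [Fact r.Prime] (c : G) (n : ℕ)
    (hc : c ^ r ^ n = 1) : (Fx p c).ncard ≡ Nat.card (Sylow p G) [MOD r] := by
  have h1 := syl_modEq_elt p r c n hc Set.univ (fun R _ => Set.mem_univ _)
  rw [Set.ncard_univ] at h1
  have h2 : {R : Sylow p G | R ∈ Set.univ ∧ c • R = R} = Fx p c := by
    ext R
    simp [Fx]
  rw [h2] at h1
  exact h1.symm

/-- In a simple group with more than one Sylow `p`-subgroup, a nontrivial element does not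
normalize all of them. -/
theorem fx_lt [Finite G] [IsSimpleGroup G] (p : ℕ) [Fact p.Prime]
    (hn : Nat.card (Sylow p G) ≠ 1) (c : G) (hc : c ≠ 1) :
    (Fx p c).ncard < Nat.card (Sylow p G) := by
  have hle : (Fx p c).ncard ≤ Nat.card (Sylow p G) := by
    have := Set.ncard_le_ncard (Set.subset_univ (Fx p c)) (Set.toFinite _)
    rw [Set.ncard_univ] at this
    exact this
  apply lt_of_le_of_ne hle
  intro heq
  have huniv : Fx p c = Set.univ := by
    apply Set.eq_of_subset_of_ncard_le (Set.subset_univ _) _ (Set.toFinite _)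
    rw [Set.ncard_univ, heq]
  have hker : c ∈ (MulAction.toPermHom G (Sylow p G)).ker := by
    rw [MonoidHom.mem_ker]
    apply Equiv.ext
    intro R
    have : R ∈ Fx p c := by rw [huniv]; exact Set.mem_univ R
    exact this
  rcases (MonoidHom.normal_ker (MulAction.toPermHom G (Sylow p G))).eq_bot_or_eq_top with h | h
  · rw [h, Subgroup.mem_bot] at hker
    exact hc hker
  · apply hn
    obtain ⟨P⟩ : Nonempty (Sylow p G) := inferInstance
    rw [Nat.card_eq_one_iff_unique]
    refine ⟨⟨fun Q R => ?_⟩, ⟨P⟩⟩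
    obtain ⟨g, hg⟩ := MulAction.exists_smul_eq G Q R
    have hgk : g ∈ (MulAction.toPermHom G (Sylow p G)).ker := by rw [h]; exact Subgroup.mem_top g
    rw [MonoidHom.mem_ker] at hgk
    have : g • Q = Q := by
      have := congrArg (fun (σ : Equiv.Perm (Sylow p G)) => σ Q) hgk
      exact this
    rw [← hg, this]

/-- The Sylow `p`-subgroups centralized by `z`. -/
def Cn (p : ℕ) (z : G) : Set (Sylow p G) :=
  {R | z ∈ Subgroup.centralizer ((R : Subgroup G) : Set G)}

theorem mem_Cn (p : ℕ) (z : G) (R : Sylow p G) :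
    R ∈ Cn p z ↔ z ∈ Subgroup.centralizer ((R : Subgroup G) : Set G) := Iff.rfl

theorem cn_subset_fx (p : ℕ) (z : G) : Cn p z ⊆ Fx p z := by
  intro R hR
  exact Sylow.smul_eq_iff_mem_normalizer.mpr (Subgroup.centralizer_le_normalizer _ hR)

/-- An element centralizing a Sylow `p`-subgroup centralizes `≡ 1 mod p` of them. -/
theorem cn_mod [Finite G] (p : ℕ) [Fact p.Prime] (P : Sylow p G) (z : G)
    (hz : z ∈ Subgroup.centralizer ((P : Subgroup G) : Set G)) : (Cn p z).ncard % p = 1 := by
  apply card_inv_mem p P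
  · intro x hx R hR
    rw [mem_Cn] at hR ⊢
    have hc : x * z = z * x := Subgroup.mem_centralizer_iff.mp hz x hx
    have hc' : x * z * x⁻¹ = z := by rw [hc, mul_inv_cancel_right]
    rw [Subgroup.mem_centralizer_iff]
    intro y hy
    have hy' : x⁻¹ * y * x ∈ (R : Subgroup G) := (mem_smul_sylow x y R).mp hy
    have h1 := Subgroup.mem_centralizer_iff.mp hR _ hy'
    calc y * z = y * (x * z * x⁻¹) := by rw [hc']
      _ = x * ((x⁻¹ * y * x) * z) * x⁻¹ := by group
      _ = x * (z * (x⁻¹ * y * x)) * x⁻¹ := by rw [h1]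
      _ = (x * z * x⁻¹) * y := by group
      _ = z * y := by rw [hc']
  · exact hz

/-- The conjugacy class of `z`, as a set. -/
def conjSet (z : G) : Set G := {t | ∃ g : G, g * z * g⁻¹ = t}

theorem mem_conjSet_self (z : G) : z ∈ conjSet z := ⟨1, by simp⟩

theorem conjSet_conj (z g t : G) (ht : t ∈ conjSet z) : g * t * g⁻¹ ∈ conjSet z := by
  obtain ⟨h, rfl⟩ := ht
  exact ⟨g * h, by group⟩

/-- Double counting of pairs (conjugate of `z`, Sylow `p`-subgroup) in an equivariant
relation. -/
theorem class_formula [Finite G] (p : ℕ) [Fact p.Prime] (A : Sylow p G → G → Prop)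
    (hA : ∀ (g : G) (R : Sylow p G) (a : G), A R a → A (g • R) (g * a * g⁻¹)) (z : G)
    (P : Sylow p G) :
    (conjSet z).ncard * {R : Sylow p G | A R z}.ncard =
      Nat.card (Sylow p G) * {t | t ∈ conjSet z ∧ A P t}.ncard := by
  classical
  haveI : Fintype G := Fintype.ofFinite G
  haveI : Fintype (Sylow p G) := Fintype.ofFinite _
  have hcomm := Finset.sum_card_bipartiteAbove_eq_sum_card_bipartiteBelow
    (s := (conjSet z).toFinset) (t := (Finset.univ : Finset (Sylow p G)))
    (r := fun t R => A R t)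
  have hL : ∀ t ∈ (conjSet z).toFinset,
      (Finset.bipartiteAbove (fun t R => A R t) Finset.univ t).card =
        {R : Sylow p G | A R z}.ncard := by
    intro t ht
    rw [Set.mem_toFinset] at ht
    obtain ⟨g, rfl⟩ := ht
    rw [← Set.ncard_coe_finset]
    have : ((Finset.bipartiteAbove (fun t R => A R t) Finset.univ (g * z * g⁻¹) :
        Finset (Sylow p G)) : Set (Sylow p G)) = (fun R => g • R) '' {R : Sylow p G | A R z} := by
      ext R
      simp only [Finset.bipartiteAbove, Finset.coe_filter, Finset.mem_univ, true_and,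
        Set.mem_ofPred_eq, Set.mem_image]
      constructor
      · intro h
        refine ⟨g⁻¹ • R, ?_, by rw [smul_inv_smul]⟩
        have h1 := hA g⁻¹ R _ h
        have h2 : g⁻¹ * (g * z * g⁻¹) * g⁻¹⁻¹ = z := by group
        rw [h2] at h1
        exact h1
      · rintro ⟨R', h, rfl⟩
        exact hA g R' z h
    rw [this, Set.ncard_image_of_injective _ (MulAction.injective g)]
  have hR : ∀ R ∈ (Finset.univ : Finset (Sylow p G)),
      (Finset.bipartiteBelow (fun t R => A R t) (conjSet z).toFinset R).card =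
        {t | t ∈ conjSet z ∧ A P t}.ncard := by
    intro R _
    obtain ⟨g, rfl⟩ := MulAction.exists_smul_eq G P R
    rw [← Set.ncard_coe_finset]
    have : ((Finset.bipartiteBelow (fun t R => A R t) (conjSet z).toFinset (g • P) :
        Finset G) : Set G) = (fun t => g * t * g⁻¹) '' {t | t ∈ conjSet z ∧ A P t} := by
      ext t
      simp only [Finset.bipartiteBelow, Finset.coe_filter, Set.mem_toFinset, Set.mem_ofPred_eq,
        Set.mem_image]
      constructor
      · rintro ⟨ht, h⟩
        refine ⟨g⁻¹ * t * g, ⟨?_, ?_⟩, by group⟩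
        · have h1 := conjSet_conj z g⁻¹ t ht
          rw [inv_inv] at h1
          exact h1
        · have h1 := hA g⁻¹ (g • P) t h
          rw [inv_smul_smul, inv_inv] at h1
          exact h1
      · rintro ⟨t', ⟨ht', h⟩, rfl⟩
        exact ⟨conjSet_conj z g t' ht', hA g P t' h⟩
    rw [this]
    apply Set.ncard_image_of_injective
    intro a b hab
    simpa using hab
  rw [Finset.sum_const_nat hL, Finset.sum_const_nat hR] at hcomm
  rw [Set.ncard_eq_toFinset_card', Nat.card_eq_fintype_card]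
  exact hcomm

/-- In a nonabelian simple group, only the identity centralizes a nontrivial conjugacy
class. -/
theorem centralizer_conjSet_eq_bot [Finite G] [IsSimpleGroup G] (hnc : ¬ IsMulCommutative G)
    (z : G) (hz : z ≠ 1) : Subgroup.centralizer (conjSet z) = ⊥ := by
  have hN : (Subgroup.centralizer (conjSet z)).Normal := by
    constructor
    intro n hn g
    rw [Subgroup.mem_centralizer_iff] at hn ⊢
    intro t ht
    have h0 := conjSet_conj z g⁻¹ t ht
    rw [inv_inv] at h0
    have h1 := hn (g⁻¹ * t * g) h0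
    calc t * (g * n * g⁻¹) = g * ((g⁻¹ * t * g) * n) * g⁻¹ := by group
      _ = g * (n * (g⁻¹ * t * g)) * g⁻¹ := by rw [h1]
      _ = g * n * g⁻¹ * t := by group
  rcases hN.eq_bot_or_eq_top with h | h
  · exact h
  · exfalso
    have hzc : z ∈ Subgroup.center G := by
      rw [Subgroup.mem_center_iff]
      intro g
      have hg : g ∈ Subgroup.centralizer (conjSet z) := by rw [h]; exact Subgroup.mem_top g
      exact (Subgroup.mem_centralizer_iff.mp hg z (mem_conjSet_self z)).symm
    rcases (inferInstance : (Subgroup.center G).Normal).eq_bot_or_eq_top with h2 | h2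
    · rw [h2, Subgroup.mem_bot] at hzc
      exact hz hzc
    · apply hnc
      rw [isMulCommutative_iff]
      intro a b
      have ha : a ∈ Subgroup.center G := by rw [h2]; exact Subgroup.mem_top a
      exact (Subgroup.mem_center_iff.mp ha b).symm

/-- A nonabelian simple group has no involution `t` with exactly `p + 2` conjugates that
commutes with an element of odd prime order `p`. -/
theorem class_card_contra [Finite G] [IsSimpleGroup G] (hnc : ¬ IsMulCommutative G) (p : ℕ)
    [Fact p.Prime] (hp2 : p ≠ 2) (t x : G) (ht1 : t ≠ 1) (ht2 : t ^ 2 = 1) (hx1 : x ≠ 1)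
    (hxp : x ^ p = 1) (hxt : x * t = t * x) (hT : (conjSet t).ncard = p + 2) : False := by
  classical
  haveI : Fact (Nat.Prime 2) := ⟨Nat.prime_two⟩
  have hp : p.Prime := Fact.out
  have hp3 : 3 ≤ p := by
    have := hp.two_le
    omega
  have hpodd : p % 2 = 1 := by
    rcases hp.eq_two_or_odd with h | h
    · exact absurd h hp2
    · exact h
  have hbot := centralizer_conjSet_eq_bot hnc t ht1
  have hfinT : (conjSet t).Finite := Set.toFinite _
  obtain ⟨F, hF⟩ : ∃ F : Set G, F = {s | s ∈ conjSet t ∧ x * s * x⁻¹ = s} := ⟨_, rfl⟩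
  obtain ⟨D, hD⟩ : ∃ D : Set G, D = {s | s ∈ conjSet t ∧ t * s * t⁻¹ = s} := ⟨_, rfl⟩
  have hFT : F ⊆ conjSet t := by rw [hF]; exact fun s hs => hs.1
  have hDT : D ⊆ conjSet t := by rw [hD]; exact fun s hs => hs.1
  have hx' : x ^ p ^ 1 = 1 := by rw [pow_one]; exact hxp
  have ht' : t ^ 2 ^ 1 = 1 := by rw [pow_one]; exact ht2
  -- the fixed points of `x`
  have hF1 : (conjSet t).ncard ≡ F.ncard [MOD p] := by
    rw [hF]; exact conj_modEq_elt p x 1 hx' (conjSet t) (fun a ha => conjSet_conj t x a ha)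
  have hFneT : F ≠ conjSet t := by
    intro h
    apply hx1
    have : x ∈ Subgroup.centralizer (conjSet t) := by
      rw [Subgroup.mem_centralizer_iff]
      intro s hs
      rw [← h, hF] at hs
      have h2 := hs.2
      calc s * x = (x * s * x⁻¹) * x := by rw [h2]
        _ = x * s := by group
    rw [hbot, Subgroup.mem_bot] at this
    exact this
  have hFlt : F.ncard < p + 2 := by
    rw [← hT]
    exact Set.ncard_lt_ncard (lt_of_le_of_ne hFT hFneT) hfinT
  have hFc : F.ncard = 2 := by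
    have h1 : (p + 2) % p = F.ncard % p := by rw [← hT]; exact hF1
    have h2 : (p + 2) % p = 2 := by rw [Nat.add_mod_left, Nat.mod_eq_of_lt (by omega)]
    rw [h2] at h1
    have h3 := Nat.mod_add_div F.ncard p
    rcases Nat.eq_zero_or_pos (F.ncard / p) with h4 | h4
    · rw [h4, mul_zero, add_zero] at h3; omega
    · have : p * 1 ≤ p * (F.ncard / p) := Nat.mul_le_mul_left p h4
      omega
  have htT : t ∈ conjSet t := mem_conjSet_self t
  have htF : t ∈ F := by rw [hF]; exact ⟨htT, by rw [hxt, mul_inv_cancel_right]⟩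
  -- `t` centralizes the fixed points of `x`
  have hFinv : ∀ a ∈ F, t * a * t⁻¹ ∈ F := by
    intro a ha
    rw [hF] at ha ⊢
    refine ⟨conjSet_conj t t a ha.1, ?_⟩
    calc x * (t * a * t⁻¹) * x⁻¹ = (x * t) * a * (x * t)⁻¹ := by group
      _ = (t * x) * a * (t * x)⁻¹ := by rw [hxt]
      _ = t * (x * a * x⁻¹) * t⁻¹ := by group
      _ = t * a * t⁻¹ := by rw [ha.2]
  have hb1 := conj_modEq_elt 2 t 1 ht' F hFinv
  have hFD : F ⊆ D := by
    have hsub : {a | a ∈ F ∧ t * a * t⁻¹ = a} ⊆ F := fun a ha => ha.1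
    have hmem : t ∈ {a | a ∈ F ∧ t * a * t⁻¹ = a} := ⟨htF, by rw [mul_inv_cancel_right]⟩
    have hpos : 1 ≤ {a | a ∈ F ∧ t * a * t⁻¹ = a}.ncard := by
      rw [Nat.succ_le_iff, Set.ncard_pos (Set.toFinite _)]
      exact ⟨t, hmem⟩
    have hle : {a | a ∈ F ∧ t * a * t⁻¹ = a}.ncard ≤ F.ncard :=
      Set.ncard_le_ncard hsub (Set.toFinite _)
    have h2 : {a | a ∈ F ∧ t * a * t⁻¹ = a}.ncard = 2 := by
      have : F.ncard % 2 = {a | a ∈ F ∧ t * a * t⁻¹ = a}.ncard % 2 := hb1
      omega
    have heq : {a | a ∈ F ∧ t * a * t⁻¹ = a} = F :=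
      Set.eq_of_subset_of_ncard_le hsub (by rw [h2, hFc]) (Set.toFinite _)
    intro a ha
    rw [← heq] at ha
    rw [hD]
    exact ⟨hFT ha.1, ha.2⟩
  -- the fixed points of `t`
  have hc1 := conj_modEq_elt 2 t 1 ht' (conjSet t) (fun a ha => conjSet_conj t t a ha)
  have hDodd : D.ncard % 2 = 1 := by
    have : (conjSet t).ncard % 2 = D.ncard % 2 := by rw [hD]; exact hc1
    rw [hT] at this
    omega
  have hDFinv : ∀ a ∈ D \ F, x * a * x⁻¹ ∈ D \ F := by
    intro a ha
    obtain ⟨haD, haF⟩ := ha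
    constructor
    · rw [hD] at haD ⊢
      refine ⟨conjSet_conj t x a haD.1, ?_⟩
      calc t * (x * a * x⁻¹) * t⁻¹ = (t * x) * a * (t * x)⁻¹ := by group
        _ = (x * t) * a * (x * t)⁻¹ := by rw [hxt]
        _ = x * (t * a * t⁻¹) * x⁻¹ := by group
        _ = x * a * x⁻¹ := by rw [haD.2]
    · intro h
      apply haF
      rw [hF] at h ⊢
      refine ⟨hDT haD, ?_⟩
      have h2 := h.2
      calc x * a * x⁻¹ = x⁻¹ * (x * (x * a * x⁻¹) * x⁻¹) * x := by group
        _ = x⁻¹ * (x * a * x⁻¹) * x := by rw [h2]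
        _ = a := by group
  have hd1 := conj_modEq_elt p x 1 hx' (D \ F) hDFinv
  have hd2 : {a | a ∈ D \ F ∧ x * a * x⁻¹ = a} = ∅ := by
    ext a
    simp only [Set.mem_ofPred_eq, Set.mem_empty_iff_false, iff_false, not_and]
    rintro ⟨haD, haF⟩ h
    apply haF
    rw [hF]
    exact ⟨hDT haD, h⟩
  rw [hd2, Set.ncard_empty] at hd1
  have hd3 : p ∣ (D \ F).ncard := (Nat.modEq_zero_iff_dvd).mp hd1
  have hd4 : (D \ F).ncard + F.ncard = D.ncard :=
    Set.ncard_sdiff_add_ncard_of_subset hFD (Set.toFinite _)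
  have hd5 : (D \ F).ncard ≠ 0 := by omega
  have hd6 : p ≤ (D \ F).ncard := Nat.le_of_dvd (Nat.pos_of_ne_zero hd5) hd3
  have hDT' : D = conjSet t := Set.eq_of_subset_of_ncard_le hDT (by rw [hT]; omega) hfinT
  apply ht1
  have : t ∈ Subgroup.centralizer (conjSet t) := by
    rw [Subgroup.mem_centralizer_iff]
    intro s hs
    rw [← hDT', hD] at hs
    have h2 := hs.2
    calc s * t = (t * s * t⁻¹) * t := by rw [h2]
      _ = t * s := by group
  rw [hbot, Subgroup.mem_bot] at this
  exact this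

/-- The elements of square one centralizing an abelian Sylow `p`-subgroup `P` (`p` odd)
lie in distinct cosets of `P`. -/
theorem card_invol_cent_mul_le [Finite G] (p : ℕ) [Fact p.Prime] (hp2 : p ≠ 2) (P : Sylow p G)
    (hab : (P : Subgroup G) ≤ Subgroup.centralizer ((P : Subgroup G) : Set G)) :
    {t : G | t ∈ Subgroup.centralizer ((P : Subgroup G) : Set G) ∧ t ^ 2 = 1}.ncard *
      Nat.card ↥(P : Subgroup G) ≤
      Nat.card ↥(Subgroup.centralizer ((P : Subgroup G) : Set G)) := by
  have hp : p.Prime := Fact.out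
  have h1 : Nat.card ↥(P : Subgroup G) = ((P : Subgroup G) : Set G).ncard := rfl
  have h2 : Nat.card ↥(Subgroup.centralizer ((P : Subgroup G) : Set G)) =
      ((Subgroup.centralizer ((P : Subgroup G) : Set G) : Subgroup G) : Set G).ncard := rfl
  rw [h1, h2, ← Set.ncard_prod]
  apply Set.ncard_le_ncard_of_injOn (fun q : G × G => q.1 * q.2)
  · rintro ⟨a, b⟩ ⟨ha, hb⟩
    exact Subgroup.mul_mem _ ha.1 (hab hb)
  · rintro ⟨a, b⟩ ⟨ha, hb⟩ ⟨a', b'⟩ ⟨ha', hb'⟩ heq
    have heq' : a * b = a' * b' := heq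
    have hbP : b ∈ (P : Subgroup G) := hb
    have hbP' : b' ∈ (P : Subgroup G) := hb'
    have hy : b' * b⁻¹ ∈ (P : Subgroup G) := Subgroup.mul_mem _ hbP' (Subgroup.inv_mem _ hbP)
    have hay : a = a' * (b' * b⁻¹) := by
      rw [← mul_assoc, ← heq']
      group
    have hcomm : (b' * b⁻¹) * a' = a' * (b' * b⁻¹) :=
      Subgroup.mem_centralizer_iff.mp ha'.1 _ hy
    have hy2 : (b' * b⁻¹) ^ 2 = 1 := by
      have h1 : a ^ 2 = 1 := ha.2
      rw [hay, pow_two] at h1
      have h2 : a' * (b' * b⁻¹) * (a' * (b' * b⁻¹)) =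
          (a' * a') * ((b' * b⁻¹) * (b' * b⁻¹)) := by
        calc a' * (b' * b⁻¹) * (a' * (b' * b⁻¹))
            = a' * ((b' * b⁻¹) * a') * (b' * b⁻¹) := by group
          _ = a' * (a' * (b' * b⁻¹)) * (b' * b⁻¹) := by rw [hcomm]
          _ = _ := by group
      have h3 : a' * a' = 1 := by rw [← pow_two]; exact ha'.2
      rw [h2, h3, one_mul, ← pow_two] at h1
      exact h1
    obtain ⟨n, hn⟩ := IsPGroup.iff_card.mp P.2
    have hyP : (b' * b⁻¹) ^ (p ^ n) = 1 := by
      have h7 : (⟨b' * b⁻¹, hy⟩ : ↥(P : Subgroup G)) ^ Nat.card ↥(P : Subgroup G) = 1 :=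
        pow_card_eq_one'
      rw [hn] at h7
      exact congrArg Subtype.val h7
    have hcop : Nat.Coprime 2 (p ^ n) :=
      Nat.Coprime.pow_right n ((Nat.coprime_primes Nat.prime_two hp).mpr (Ne.symm hp2))
    have hy1 : b' * b⁻¹ = 1 :=
      Subgroup.mem_bot.mp (mem_of_pow_mem_coprime (⊥ : Subgroup G) _ 2 (p ^ n) hcop
        (by rw [hy2]; exact Subgroup.one_mem _) (by rw [hyP]; exact Subgroup.one_mem _))
    rw [hy1, mul_one] at hay
    have hbb : b' = b := by
      rw [mul_inv_eq_one] at hy1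
      exact hy1
    rw [hay, hbb]

end Cfsg.Agent.Lib.Lead.SimpleSyl
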